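import Groth.Agent.S2769
import Groth.Agent.AlgSpLib.ReducedSmooth
import Mathlib.AlgebraicGeometry.Morphisms.Immersion
import Mathlib.FieldTheory.PurelyInseparable.PerfectClosure

/-!
# Smooth stratifications after a finite purely inseparable extension
-/

set_option autoImplicit false
set_option synthInstance.maxHeartbeats 80000

universe u

open CategoryTheory CategoryTheory.Limits AlgebraicGeometry TopologicalSpace

namespace GeomRedFieldLib

noncomputable section

/-- Two immersions of reduced schemes with the same range are isomorphic. -/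
theorem exists_iso_of_range_eq {A B X : Scheme.{u}} (a : A ⟶ X) (b : B ⟶ X) [IsImmersion a] [IsImmersion b]
    [AlgebraicGeometry.IsReduced A] [AlgebraicGeometry.IsReduced B] (h : Set.range a = Set.range b) :
    ∃ e : A ≅ B, e.hom ≫ b = a := by
  have hs1 : Surjective (pullback.fst a b) := ⟨fun x ↦ by
    have : x ∈ Set.range (pullback.fst a b) := by
      rw [Scheme.Pullback.range_fst, Set.mem_preimage, ← h]
      exact Set.mem_range_self x
    exact this⟩
  have hs2 : Surjective (pullback.snd a b) := ⟨fun x ↦ by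
    have : x ∈ Set.range (pullback.snd a b) := by
      rw [Scheme.Pullback.range_snd, Set.mem_preimage, h]
      exact Set.mem_range_self x
    exact this⟩
  haveI : IsClosedImmersion (pullback.fst a b) :=
    .of_isPreimmersion _ (by rw [hs1.surj.range_eq]; exact isClosed_univ)
  haveI : IsClosedImmersion (pullback.snd a b) :=
    .of_isPreimmersion _ (by rw [hs2.surj.range_eq]; exact isClosed_univ)
  haveI := hs1
  haveI := hs2
  haveI := isIso_of_isClosedImmersion_of_surjective (pullback.fst a b)
  haveI := isIso_of_isClosedImmersion_of_surjective (pullback.snd a b)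
  refine ⟨(asIso (pullback.fst a b)).symm ≪≫ asIso (pullback.snd a b), ?_⟩
  simp [← pullback.condition]

/-- Vanishing ideals cut out reduced subschemes. -/
theorem isReduced_vanishing {Y : Scheme.{u}} (S : Closeds Y) :
    AlgebraicGeometry.IsReduced (Scheme.IdealSheafData.vanishingIdeal S).subscheme := by
  let I := Scheme.IdealSheafData.vanishingIdeal S
  have : ∀ i, AlgebraicGeometry.IsReduced (I.subschemeCover.openCover.X i) := fun (U : Y.affineOpens) => by
    change AlgebraicGeometry.IsReduced (Spec (CommRingCat.of (Γ(Y, U) ⧸ I.ideal U)))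
    have : _root_.IsReduced (Γ(Y, U) ⧸ I.ideal U) :=
      (Ideal.isRadical_iff_quotient_reduced _).1 (by
        rw [Scheme.IdealSheafData.vanishingIdeal_ideal]
        exact PrimeSpectrum.isRadical_vanishingIdeal _)
    infer_instance
  exact IsReduced.of_openCover (𝒰 := I.subschemeCover.openCover)

variable {k : Type u} [Field k] {X : Scheme.{u}} (f : X ⟶ Spec (CommRingCat.of k))

/-- The preimage of a closed set in a base change. -/
def preC (k' : Type u) [Field k'] [Algebra k k'] (C : Closeds X) : Closeds ↥(pullback f (str k k')) :=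
  C.preimage (pullback.fst f (str k k')).continuous

/-- The reduced piece over `C` away from `D` is smooth over `k'`. -/
def Piece (k' : Type u) [Field k'] [Algebra k k'] (C D : Closeds X) : Prop :=
  Smooth (((Scheme.IdealSheafData.vanishingIdeal (preC f k' C)).subschemeι ⁻¹ᵁ (preC f k' D).compl).ι ≫
    (Scheme.IdealSheafData.vanishingIdeal (preC f k' C)).subschemeι ≫ pullback.snd f (str k k'))

/-- A smooth reduction over `k₁` gives smooth pieces over every larger purely inseparable extension. -/
theorem piece_of_smooth {A : Scheme.{u}} (a : A ⟶ X) [IsImmersion a] {C D : Closeds X}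
    (ha : Set.range a = (C : Set X) \ (D : Set X))
    {k₁ : Type u} [Field k₁] [Algebra k k₁] {Zr : Scheme.{u}} (i : Zr ⟶ pullback (a ≫ f) (str k k₁))
    [IsClosedImmersion i] [Surjective i] [Smooth (i ≫ pullback.snd (a ≫ f) (str k k₁))]
    {k' : Type u} [Field k'] [Algebra k k'] (φ : k₁ →ₐ[k] k') : Piece f k' C D := by
  let σ : Spec (CommRingCat.of k') ⟶ Spec (CommRingCat.of k₁) := Spec.map (CommRingCat.ofHom φ.toRingHom)
  have hσ : σ ≫ str k k₁ = str k k' := by
    simp only [σ, str, ← Spec.map_comp, ← CommRingCat.ofHom_comp]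
    congr 2
    exact φ.comp_algebraMap
  let π : pullback (a ≫ f) (str k k') ⟶ pullback (a ≫ f) (str k k₁) :=
    pullback.map _ _ _ _ (𝟙 _) σ (𝟙 _) (by simp) (by simp [hσ])
  have sqπ : IsPullback π (pullback.snd (a ≫ f) (str k k')) (pullback.snd (a ≫ f) (str k k₁)) σ := by
    refine IsPullback.of_right (h₁₂ := pullback.fst (a ≫ f) (str k k₁)) (v₁₃ := a ≫ f) (h₂₂ := str k k₁) ?_
      (pullback.lift_snd _ _ _) (IsPullback.of_hasPullback (a ≫ f) (str k k₁))
    rw [show π ≫ pullback.fst (a ≫ f) (str k k₁) = pullback.fst (a ≫ f) (str k k') from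
      (pullback.lift_fst _ _ _).trans (Category.comp_id _), hσ]
    exact IsPullback.of_hasPullback (a ≫ f) (str k k')
  haveI hsm : Smooth (pullback.snd i π ≫ pullback.snd (a ≫ f) (str k k')) :=
    MorphismProperty.of_isPullback ((IsPullback.of_hasPullback i π).paste_vert sqπ) ‹_›
  haveI : AlgebraicGeometry.IsReduced (pullback i π) :=
    AlgSpLib.isReduced_of_smooth (pullback.snd i π ≫ pullback.snd (a ≫ f) (str k k'))
  let m : pullback (a ≫ f) (str k k') ⟶ pullback f (str k k') :=
    pullback.map _ _ _ _ a (𝟙 _) (𝟙 _) (by simp) (by simp)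
  have sqm : IsPullback m (pullback.fst (a ≫ f) (str k k')) (pullback.fst f (str k k')) a := by
    refine (IsPullback.of_bot (v₂₁ := pullback.snd f (str k k')) (h₃₁ := str k k') (v₂₂ := f) ?_
      (pullback.lift_fst _ _ _).symm (IsPullback.of_hasPullback f (str k k'))).flip
    rw [show m ≫ pullback.snd f (str k k') = pullback.snd (a ≫ f) (str k k') from
      (pullback.lift_snd _ _ _).trans (Category.comp_id _)]
    exact IsPullback.of_hasPullback (a ≫ f) (str k k')
  haveI : IsImmersion m := MorphismProperty.of_isPullback sqm.flip ‹_›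
  let V := Scheme.IdealSheafData.vanishingIdeal (preC f k' C)
  haveI : AlgebraicGeometry.IsReduced V.subscheme := isReduced_vanishing _
  let O := V.subschemeι ⁻¹ᵁ (preC f k' D).compl
  haveI : AlgebraicGeometry.IsReduced (O : Scheme.{u}) := isReduced_of_isOpenImmersion O.ι
  have hrange : Set.range (pullback.snd i π ≫ m) = Set.range (O.ι ≫ V.subschemeι) := by
    rw [Scheme.Hom.comp_base, TopCat.coe_comp, Set.range_comp, (pullback.snd i π).surjective.range_eq,
      Set.image_univ, Scheme.Hom.comp_base, TopCat.coe_comp, Set.range_comp, Scheme.Opens.range_ι]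
    have h1 : Set.range m = pullback.fst f (str k k') ⁻¹' ((C : Set X) \ (D : Set X)) := by
      rw [← ha]
      refine Set.Subset.antisymm ?_ fun w hw ↦ ?_
      · rintro _ ⟨v, rfl⟩
        exact ⟨pullback.fst (a ≫ f) (str k k') v, by rw [← Scheme.Hom.comp_apply, ← Scheme.Hom.comp_apply, sqm.w]⟩
      · obtain ⟨z, hz⟩ := hw
        obtain ⟨v, hv, -⟩ := Scheme.exists_preimage_of_isPullback sqm w z hz.symm
        exact ⟨v, hv⟩
    rw [h1, show (O : Set V.subscheme) = V.subschemeι ⁻¹' ((preC f k' D : Set ↥(pullback f (str k k')))ᶜ) from rfl,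
      Set.image_preimage_eq_inter_range, Scheme.IdealSheafData.range_subschemeι,
      Scheme.IdealSheafData.coe_support_vanishingIdeal, Set.inter_comm]
    rfl
  obtain ⟨e, he⟩ := exists_iso_of_range_eq (pullback.snd i π ≫ m) (O.ι ≫ V.subschemeι) hrange
  show Smooth (O.ι ≫ V.subschemeι ≫ pullback.snd f (str k k'))
  rw [← Category.assoc, ← e.inv_hom_id_assoc (O.ι ≫ V.subschemeι), he, Category.assoc, Category.assoc,
    show m ≫ pullback.snd f (str k k') = pullback.snd (a ≫ f) (str k k') from
      (pullback.lift_snd _ _ _).trans (Category.comp_id _)]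
  exact MorphismProperty.comp_mem _ _ _ inferInstance hsm

/-- Two finite purely inseparable extensions embed into a third. -/
theorem exists_compositum_pi (k₁ k₂ : Type u) [Field k₁] [Algebra k k₁] [FiniteDimensional k k₁]
    [IsPurelyInseparable k k₁] [Field k₂] [Algebra k k₂] [FiniteDimensional k k₂] [IsPurelyInseparable k k₂] :
    ∃ (k' : Type u) (_ : Field k') (_ : Algebra k k') (_ : FiniteDimensional k k') (_ : IsPurelyInseparable k k'),
      Nonempty (k₁ →ₐ[k] k') ∧ Nonempty (k₂ →ₐ[k] k') := by
  let a : k₁ →ₐ[k] AlgebraicClosure k := IsAlgClosed.lift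
  let b : k₂ →ₐ[k] AlgebraicClosure k := IsAlgClosed.lift
  haveI : FiniteDimensional k a.fieldRange := (AlgEquiv.ofInjectiveField a).toLinearEquiv.finiteDimensional
  haveI : FiniteDimensional k b.fieldRange := (AlgEquiv.ofInjectiveField b).toLinearEquiv.finiteDimensional
  have ha : a.fieldRange ≤ perfectClosure k (AlgebraicClosure k) := by
    rintro _ ⟨x, rfl⟩
    exact (map_mem_perfectClosure_iff a).mpr ((mem_perfectClosure_iff).mpr (IsPurelyInseparable.pow_mem k (ringExpChar k) x))
  have hb : b.fieldRange ≤ perfectClosure k (AlgebraicClosure k) := by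
    rintro _ ⟨x, rfl⟩
    exact (map_mem_perfectClosure_iff b).mpr ((mem_perfectClosure_iff).mpr (IsPurelyInseparable.pow_mem k (ringExpChar k) x))
  refine ⟨↥(a.fieldRange ⊔ b.fieldRange), inferInstance, inferInstance, inferInstance,
    (le_perfectClosure_iff k (AlgebraicClosure k) (a.fieldRange ⊔ b.fieldRange)).mp (sup_le ha hb),
    ⟨(IntermediateField.inclusion le_sup_left).comp (AlgEquiv.ofInjectiveField a).toAlgHom⟩,
    ⟨(IntermediateField.inclusion le_sup_right).comp (AlgEquiv.ofInjectiveField b).toAlgHom⟩⟩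

/-- Every closed subset has a stratification that becomes smooth over all large extensions. -/
theorem exists_stratification [LocallyOfFiniteType f] [QuasiCompact f] (T : Closeds X) :
    ∃ (k₀ : Type u) (_ : Field k₀) (_ : Algebra k k₀) (_ : FiniteDimensional k k₀) (_ : IsPurelyInseparable k k₀)
      (t : ℕ) (C : ℕ → Closeds X), C 0 = T ∧ C t = ⊥ ∧ Antitone C ∧
        ∀ (k' : Type u) [Field k'] [Algebra k k'], (k₀ →ₐ[k] k') → ∀ n < t, Piece f k' (C n) (C (n + 1)) := by
  haveI : CompactSpace X := QuasiCompact.compactSpace_of_compactSpace f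
  haveI : IsLocallyNoetherian X := LocallyOfFiniteType.isLocallyNoetherian f
  haveI : IsNoetherian X := {}
  induction T using WellFoundedLT.induction with
  | _ T IH =>
  by_cases hT : T = ⊥
  · exact ⟨k, inferInstance, inferInstance, inferInstance, inferInstance, 0, fun _ ↦ ⊥, hT.symm, rfl, antitone_const,
      fun _ _ _ _ n hn ↦ absurd hn (Nat.not_lt_zero n)⟩
  let Z := Scheme.IdealSheafData.vanishingIdeal T
  have hZr : Set.range Z.subschemeι = (T : Set X) := by
    rw [Scheme.IdealSheafData.range_subschemeι]; exact Scheme.IdealSheafData.coe_support_vanishingIdeal T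
  haveI : Nonempty Z.subscheme := by
    obtain ⟨x, hx⟩ : (T : Set X).Nonempty := Set.nonempty_iff_ne_empty.mpr fun h ↦ hT (Closeds.ext h)
    obtain ⟨z, -⟩ := hZr.ge hx
    exact ⟨z⟩
  obtain ⟨U, hU, k₁, i1, i2, hfin, hpi, Zr, _, i, hi, hsurj, hsm⟩ := Groth.Agent.S2769.result k (Z.subschemeι ≫ f)
  haveI : Surjective i := ⟨hsurj⟩
  haveI := hi
  let D : Closeds X := ⟨Z.subschemeι '' (U : Set Z.subscheme)ᶜ,
    Z.subschemeι.isClosedEmbedding.isClosedMap _ U.2.isClosed_compl⟩
  have hDT : D < T := by
    refine lt_of_le_of_ne (fun x hx ↦ hZr.le (Set.image_subset_range _ _ hx)) fun h ↦ ?_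
    obtain ⟨z, hz⟩ := hU.nonempty
    have : Z.subschemeι z ∈ (D : Set X) := by rw [h]; exact hZr.le (Set.mem_range_self z)
    obtain ⟨z', hz', hzz⟩ := this
    exact hz' (Z.subschemeι.isClosedEmbedding.injective hzz ▸ hz)
  obtain ⟨k₂, _, _, _, _, t, C, hC0, hCt, hanti, hC⟩ := IH D hDT
  obtain ⟨k₀, _, _, _, _, ⟨φ₁⟩, ⟨φ₂⟩⟩ := exists_compositum_pi (k := k) k₁ k₂
  refine ⟨k₀, inferInstance, inferInstance, inferInstance, inferInstance, t + 1,
    fun n ↦ n.casesOn T C, rfl, hCt, antitone_nat_of_succ_le fun n ↦ ?_, fun k' _ _ φ n hn ↦ ?_⟩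
  · cases n with
    | zero =>
      show C 0 ≤ T
      rw [hC0]
      exact hDT.le
    | succ n => exact hanti n.le_succ
  cases n with
  | succ n => exact hC k' (φ.comp φ₂) n (by omega)
  | zero =>
    show Piece f k' T (C 0)
    rw [hC0]
    haveI : IsClosedImmersion (Z.subschemeι) := inferInstance
    have hsm' : Smooth (i ≫ pullback.snd (U.ι ≫ Z.subschemeι ≫ f) (str k k₁)) := hsm
    have ha : Set.range (U.ι ≫ Z.subschemeι) = (T : Set X) \ (D : Set X) := by
      rw [Scheme.Hom.comp_base, TopCat.coe_comp, Set.range_comp, Scheme.Opens.range_ι,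
        show (D : Set X) = Z.subschemeι '' (U : Set Z.subscheme)ᶜ from rfl,
        Set.image_compl_eq_range_sdiff_image Z.subschemeι.isClosedEmbedding.injective, hZr,
        Set.sdiff_sdiff_right_self, Set.inter_eq_right.mpr (hZr ▸ Set.image_subset_range _ _)]
    let c : pullback (U.ι ≫ Z.subschemeι ≫ f) (str k k₁) ≅ pullback ((U.ι ≫ Z.subschemeι) ≫ f) (str k k₁) :=
      pullback.congrHom (Category.assoc _ _ _).symm rfl
    haveI : IsClosedImmersion (i ≫ c.hom) := inferInstance
    haveI : Surjective (i ≫ c.hom) := inferInstance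
    haveI : Smooth ((i ≫ c.hom) ≫ pullback.snd ((U.ι ≫ Z.subschemeι) ≫ f) (str k k₁)) := by
      rw [Category.assoc, show c.hom ≫ pullback.snd ((U.ι ≫ Z.subschemeι) ≫ f) (str k k₁) =
        pullback.snd (U.ι ≫ Z.subschemeι ≫ f) (str k k₁) from (pullback.lift_snd _ _ _).trans (Category.comp_id _)]
      exact hsm'
    exact piece_of_smooth f (U.ι ≫ Z.subschemeι) ha (i ≫ c.hom) (φ.comp φ₁)

end

end GeomRedFieldLib
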