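import Groth.Agent.GeomRedFieldLib.Local
import Mathlib.AlgebraicGeometry.Geometrically.Reduced
import Mathlib.AlgebraicGeometry.Morphisms.Smooth
import Mathlib.AlgebraicGeometry.Morphisms.UniversallyInjective
import Mathlib.AlgebraicGeometry.Morphisms.UniversallyOpen
import Mathlib.AlgebraicGeometry.Noetherian
import Mathlib.RingTheory.Spectrum.Prime.Homeomorph

/-!
# Geometric reducedness of schemes over a field

Reduction to charts, generic smoothness, and the reduction of `X_{k'}` for a large finite purely inseparable `k'`.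
-/

set_option autoImplicit false
set_option synthInstance.maxHeartbeats 80000

universe u

open CategoryTheory CategoryTheory.Limits AlgebraicGeometry TensorProduct

namespace GeomRedFieldLib

noncomputable section

variable {k : Type u} [Field k]

/-- Geometrically reduced algebras stay reduced after any field extension. -/
theorem isReduced_tensor_geomRed (T : Type u) [CommRing T] [Algebra k T] [Algebra.IsGeometricallyReduced k T]
    (F : Type u) [Field F] [Algebra k F] : _root_.IsReduced (T ⊗[k] F) := by
  let kb := AlgebraicClosure k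
  let Fb := AlgebraicClosure F
  let ι : kb →ₐ[k] Fb := IsAlgClosed.lift
  letI : Algebra kb Fb := ι.toRingHom.toAlgebra
  haveI : IsScalarTower k kb Fb := IsScalarTower.of_algebraMap_eq fun x => (ι.commutes x).symm
  haveI : _root_.IsReduced (kb ⊗[k] T) := (Algebra.isGeometricallyReduced_field_iff k T).mp inferInstance
  haveI : _root_.IsReduced (Fb ⊗[kb] (kb ⊗[k] T)) :=
    Groth.Agent.HopfFF.isReduced_tensor_of_perfectField kb Fb (kb ⊗[k] T)
  haveI : _root_.IsReduced (Fb ⊗[k] T) :=
    isReduced_of_injective (Algebra.TensorProduct.cancelBaseChange k kb kb Fb T).symm (AlgEquiv.injective _)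
  exact isReduced_of_injective
    ((Algebra.TensorProduct.comm k T Fb).toAlgHom.comp
      (Algebra.TensorProduct.map (AlgHom.id k T) (IsScalarTower.toAlgHom k F Fb)))
    ((Algebra.TensorProduct.comm k T Fb).injective.comp
      (Module.Flat.lTensor_preserves_injective_linearMap (M := T) (IsScalarTower.toAlgHom k F Fb).toLinearMap
        (algebraMap F Fb).injective))

/-- Reducedness after all finite purely inseparable extensions gives geometric reducedness. -/
theorem isGeometricallyReduced_of_finite_purelyInseparable (T : Type u) [CommRing T] [Algebra k T]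
    (h : ∀ (k' : Type u) [Field k'] [Algebra k k'] [FiniteDimensional k k'] [IsPurelyInseparable k k'],
      _root_.IsReduced (k' ⊗[k] T)) : Algebra.IsGeometricallyReduced k T := by
  let P := perfectClosure k (AlgebraicClosure k)
  refine isGeometricallyReduced_of_perfect P T ⟨fun z hz ↦ ?_⟩
  obtain ⟨C, hC, w, rfl⟩ := exists_mem_range_incl P T z
  haveI := hC
  haveI : IsPurelyInseparable k C := IsPurelyInseparable.tower_bot k C P
  haveI := h C
  obtain ⟨n, hn⟩ := hz
  rw [← map_pow] at hn
  rw [(show IsNilpotent w from ⟨n, incl_injective P C T (hn.trans (map_zero _).symm)⟩).eq_zero, map_zero]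

/-- The morphism of spectra attached to a `k`-algebra. -/
abbrev str (k : Type u) [Field k] (T : Type u) [CommRing T] [Algebra k T] :
    Spec (CommRingCat.of T) ⟶ Spec (CommRingCat.of k) :=
  Spec.map (CommRingCat.ofHom (algebraMap k T))

theorem gr_str (T : Type u) [CommRing T] [Algebra k T] [Algebra.IsGeometricallyReduced k T] :
    GeometricallyReduced (str k T) := by
  refine ⟨geometrically_iff_of_commRing_of_isClosedUnderIsomorphisms.mpr fun F _ _ => ?_⟩
  haveI := isReduced_tensor_geomRed (k := k) T F
  exact isReduced_of_isOpenImmersion (pullbackSpecIso k T F).hom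

variable {X : Scheme.{u}} (f : X ⟶ Spec (CommRingCat.of k))

/-- Open subschemes of geometrically reduced schemes are geometrically reduced. -/
theorem gr_comp {V : Scheme.{u}} (j : V ⟶ X) [IsOpenImmersion j] [GeometricallyReduced f] :
    GeometricallyReduced (j ≫ f) := by
  refine ⟨geometrically_iff_of_commRing_of_isClosedUnderIsomorphisms.mpr fun F _ _ => ?_⟩
  let g := Spec.map (CommRingCat.ofHom (algebraMap k F))
  haveI : AlgebraicGeometry.IsReduced (pullback f g) :=
    GeometricallyReduced.geometrically_isReduced _ _ _ (.of_hasPullback f g)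
  let m : pullback (j ≫ f) g ⟶ pullback f g :=
    pullback.map _ _ _ _ j (𝟙 _) (𝟙 _) (by simp) (by simp)
  haveI : IsOpenImmersion m := inferInstanceAs (IsOpenImmersion (pullback.map _ _ _ _ j (𝟙 _) (𝟙 _) _ _))
  exact isReduced_of_isOpenImmersion m

/-- Geometric reducedness is local on the source. -/
theorem gr_of_cover (𝒰 : X.OpenCover) (h : ∀ i, GeometricallyReduced (𝒰.f i ≫ f)) : GeometricallyReduced f := by
  refine ⟨geometrically_iff_of_commRing_of_isClosedUnderIsomorphisms.mpr fun F _ _ => ?_⟩
  apply +allowSynthFailures @IsReduced.of_openCover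
    (𝒰 := Scheme.Pullback.openCoverOfLeft 𝒰 f (Spec.map (CommRingCat.ofHom (algebraMap k F))))
  intro i
  haveI := h i
  exact GeometricallyReduced.geometrically_isReduced _ _ _ (.of_hasPullback _ _)

/-- A chart of a geometrically reduced scheme gives a geometrically reduced algebra. -/
theorem isGeometricallyReduced_chart [GeometricallyReduced f] {T : Type u} [CommRing T] [Algebra k T]
    (j : Spec (CommRingCat.of T) ⟶ X) [IsOpenImmersion j] (hj : j ≫ f = str k T) :
    Algebra.IsGeometricallyReduced k T := by
  rw [Algebra.isGeometricallyReduced_field_iff]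
  haveI : GeometricallyReduced (str k T) := hj ▸ gr_comp f j
  haveI : AlgebraicGeometry.IsReduced (pullback (str k T) (str k (AlgebraicClosure k))) :=
    GeometricallyReduced.geometrically_isReduced _ _ _ (.of_hasPullback _ _)
  haveI := isReduced_of_isOpenImmersion (pullbackSpecIso k T (AlgebraicClosure k)).inv
  haveI : _root_.IsReduced (T ⊗[k] AlgebraicClosure k) :=
    (affine_isReduced_iff (CommRingCat.of (T ⊗[k] AlgebraicClosure k))).mp this
  exact isReduced_of_injective (Algebra.TensorProduct.comm k (AlgebraicClosure k) T) (AlgEquiv.injective _)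

/-- An affine open of a `k`-scheme as the spectrum of a `k`-algebra. -/
theorem exists_algebra {U : X.Opens} (hU : IsAffineOpen U) :
    ∃ (T : Type u) (_ : CommRing T) (_ : Algebra k T) (j : Spec (CommRingCat.of T) ⟶ X),
      IsOpenImmersion j ∧ Set.range j = (U : Set X) ∧ j ≫ f = str k T := by
  obtain ⟨φ, hφ⟩ := Spec.map_surjective (hU.fromSpec ≫ f)
  exact ⟨Γ(X, U), inferInstance, φ.hom.toAlgebra, hU.fromSpec, inferInstance, hU.range_fromSpec, hφ.symm⟩

theorem finiteType_of_chart [LocallyOfFiniteType f] {T : Type u} [CommRing T] [Algebra k T]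
    (j : Spec (CommRingCat.of T) ⟶ X) [IsOpenImmersion j] (hj : j ≫ f = str k T) : Algebra.FiniteType k T := by
  have h : LocallyOfFiniteType (str k T) := hj ▸ inferInstance
  exact RingHom.finiteType_algebraMap.mp ((HasRingHomProperty.Spec_iff (P := @LocallyOfFiniteType)).mp h)

/-- A reduced scheme with a dense geometrically reduced open is geometrically reduced. -/
theorem gr_of_dense_open [AlgebraicGeometry.IsReduced X] [IsLocallyNoetherian X] (W : X.Opens)
    (hW : Dense (W : Set X)) [GeometricallyReduced (W.ι ≫ f)] : GeometricallyReduced f := by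
  haveI : IsDominant W.ι := ⟨by rw [DenseRange, Scheme.Opens.range_ι]; exact hW⟩
  haveI : IsSchemeTheoreticallyDominant W.ι := .of_isDominant _
  refine ⟨geometrically_iff_of_commRing_of_isClosedUnderIsomorphisms.mpr fun F _ _ => ?_⟩
  let g := Spec.map (CommRingCat.ofHom (algebraMap k F))
  let p := pullback.fst f g
  haveI : AlgebraicGeometry.IsReduced (pullback (W.ι ≫ f) g) :=
    GeometricallyReduced.geometrically_isReduced _ _ _ (.of_hasPullback _ _)
  haveI : AlgebraicGeometry.IsReduced (pullback p W.ι) :=
    isReduced_of_isOpenImmersion (pullbackSymmetry p W.ι ≪≫ pullbackRightPullbackFstIso f g W.ι).hom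
  exact IsSchemeTheoreticallyDominant.isReduced (pullback.fst p W.ι)

/-- The reduced structure on the spectrum of an algebra with geometrically reduced reduction. -/
theorem gr_of_reduced_chart (R : Type u) [CommRing R] [Algebra k R]
    [Algebra.IsGeometricallyReduced k (R ⧸ nilradical R)] {V : Scheme.{u}} [AlgebraicGeometry.IsReduced V]
    (c : V ⟶ Spec (CommRingCat.of R)) [IsClosedImmersion c] [Surjective c] :
    GeometricallyReduced (c ≫ str k R) := by
  obtain ⟨I, e, rfl⟩ := IsClosedImmersion.Spec_iff.mp ‹IsClosedImmersion c›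
  haveI : AlgebraicGeometry.IsReduced (Spec (CommRingCat.of (R ⧸ I))) := isReduced_of_isOpenImmersion e.inv
  haveI : _root_.IsReduced (R ⧸ I) := (affine_isReduced_iff (CommRingCat.of (R ⧸ I))).mp this
  obtain rfl : I = nilradical R := by
    refine le_antisymm (fun x hx ↦ ?_) (fun x hx ↦ ?_)
    · rw [nilradical_eq_sInf, Submodule.mem_sInf]
      intro Q hQ
      haveI : Ideal.IsPrime Q := hQ
      obtain ⟨v, hv⟩ := (e.hom ≫ Spec.map (CommRingCat.ofHom (Ideal.Quotient.mk I))).surjective
        (⟨Q, hQ⟩ : PrimeSpectrum R)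
      have hQe : Q = Ideal.comap (Ideal.Quotient.mk I) (e.hom v).asIdeal :=
        (congrArg PrimeSpectrum.asIdeal hv).symm
      rw [hQe, Ideal.mem_comap, Ideal.Quotient.eq_zero_iff_mem.mpr hx]
      exact Ideal.zero_mem _
    · rw [← Ideal.Quotient.eq_zero_iff_mem]
      exact ((mem_nilradical.mp hx).map (Ideal.Quotient.mk I)).eq_zero
  haveI := gr_str (k := k) (R ⧸ nilradical R)
  have he : (e.hom ≫ Spec.map (CommRingCat.ofHom (Ideal.Quotient.mk (nilradical R)))) ≫ str k R =
      e.hom ≫ str k (R ⧸ nilradical R) := by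
    rw [Category.assoc, ← Spec.map_comp]; rfl
  rw [he]
  exact gr_comp _ _

/-- Membership in the smooth locus on a chart. -/
theorem mem_smoothLocus_chart [LocallyOfFinitePresentation f] {T : Type u} [CommRing T] [Algebra k T]
    (j : Spec (CommRingCat.of T) ⟶ X) [IsOpenImmersion j] (hj : j ≫ f = str k T) (q : PrimeSpectrum T) :
    j q ∈ f.smoothLocus ↔ Algebra.IsSmoothAt k q.asIdeal := by
  haveI : LocallyOfFinitePresentation (str k T) := hj ▸ inferInstance
  have h1 : j q ∈ f.smoothLocus ↔ ((str k T).stalkMap q).hom.FormallySmooth := by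
    refine (SetLike.ext_iff.mp (Scheme.Hom.preimage_smoothLocus_eq j f) q).trans ?_
    show ((j ≫ f).stalkMap q).hom.FormallySmooth ↔ _
    rw [hj]
  rw [h1]
  let p := (q.comap (algebraMap k T)).asIdeal
  haveI : q.asIdeal.LiesOver p := ⟨rfl⟩
  letI := Localization.AtPrime.algebraOfLiesOver p q.asIdeal
  trans Algebra.FormallySmooth (Localization.AtPrime p) (Localization.AtPrime q.asIdeal)
  · rw [← RingHom.formallySmooth_algebraMap]
    exact RingHom.FormallySmooth.respectsIso.arrow_mk_iso_iff
      (Scheme.arrowStalkMapSpecIso (CommRingCat.ofHom (algebraMap k T)) q)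
  · exact Algebra.FormallySmooth.iff_restrictScalars.symm

/-- Geometrically reduced schemes locally of finite type are generically smooth. -/
theorem dense_smoothLocus_of_gr [AlgebraicGeometry.IsReduced X] [LocallyOfFinitePresentation f]
    [GeometricallyReduced f] : Dense (f.smoothLocus : Set X) := by
  rw [dense_iff_closure_eq, Set.eq_univ_iff_forall]
  intro x
  obtain ⟨_, ⟨U : X.Opens, hU, rfl⟩, hxU, -⟩ :=
    X.isBasis_affineOpens.exists_subset_of_mem_open (Set.mem_univ x) isOpen_univ
  obtain ⟨T, _, _, j, _, hr, hj⟩ := exists_algebra f hU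
  haveI := finiteType_of_chart f j hj
  haveI := isGeometricallyReduced_chart f j hj
  obtain ⟨q₀, rfl⟩ : x ∈ Set.range j := by rw [hr]; exact hxU
  let q : PrimeSpectrum T := q₀
  obtain ⟨P, hP, hPq⟩ := Ideal.exists_minimalPrimes_le (show (⊥ : Ideal T) ≤ q.asIdeal from bot_le)
  haveI := hP.1.1
  have hs : j ⟨P, hP.1.1⟩ ∈ f.smoothLocus :=
    (mem_smoothLocus_chart f j hj ⟨P, hP.1.1⟩).mpr
      (isSmoothAt_of_minimalPrime P hP (isGeometricallyReduced_localization P.primeCompl _))
  exact (((PrimeSpectrum.le_iff_specializes ⟨P, hP.1.1⟩ q).mp hPq).map j.continuous).mem_closed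
    isClosed_closure (subset_closure hs)

variable (K : Type u) [Field K] [Algebra k K] [IsPurelyInseparable k K]

theorem universallyInjective_str : UniversallyInjective (str k K) := by
  rw [UniversallyInjective.iff_diagonal]
  haveI : Subsingleton ↥(pullback (str k K) (str k K)) := by
    haveI : Subsingleton (PrimeSpectrum (K ⊗[k] K)) :=
      (PrimeSpectrum.isHomeomorph_comap_of_isPurelyInseparable k K K).injective.subsingleton
    haveI : Subsingleton ↥(Spec (CommRingCat.of (K ⊗[k] K))) := ‹Subsingleton (PrimeSpectrum (K ⊗[k] K))›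
    exact (Scheme.homeoOfIso (pullbackSpecIso k K K)).toEquiv.subsingleton
  exact ⟨fun y ↦ ⟨⟨⊥, Ideal.isPrime_bot⟩, Subsingleton.elim _ _⟩⟩

theorem surjective_str (K : Type u) [Field K] [Algebra k K] : Surjective (str k K) :=
  ⟨fun y ↦ ⟨⟨⊥, Ideal.isPrime_bot⟩, Subsingleton.elim _ _⟩⟩

end

end GeomRedFieldLib
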