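import Groth.Agent.GeomRedFieldLib.Scheme
import Groth.Agent.SweepSix.FieldsRed
import Groth.Agent.CohenLib.SmoothPoint
import Mathlib.AlgebraicGeometry.FunctionField
import Mathlib.AlgebraicGeometry.Fiber

/-!
# Smoothness at and near the generic fibre of a dominant morphism of integral schemes
-/

set_option autoImplicit false
set_option synthInstance.maxHeartbeats 80000

universe u

open CategoryTheory CategoryTheory.Limits AlgebraicGeometry TensorProduct

namespace GeomRedFieldLib

noncomputable section

variable {X Y : Scheme.{u}}

theorem isField_stalk_generic [IsIntegral Y] {y : Y} (hy : y = genericPoint Y) : IsField (Y.presheaf.stalk y) := by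
  subst hy
  exact Field.toIsField Y.functionField

theorem perfectField_stalk_generic [IsIntegral Y] [PerfectField Y.functionField] {y : Y} (hy : y = genericPoint Y) :
    letI := (isField_stalk_generic hy).toField; PerfectField (Y.presheaf.stalk y) := by
  subst hy
  letI := (isField_stalk_generic (Y := Y) rfl).toField
  let K := Y.functionField
  letI : Algebra K (Y.presheaf.stalk (genericPoint Y)) := (RingHom.id K).toAlgebra
  haveI : Algebra.IsAlgebraic K (Y.presheaf.stalk (genericPoint Y)) :=
    ⟨fun x ↦ isAlgebraic_algebraMap (R := K) (A := Y.presheaf.stalk (genericPoint Y)) x⟩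
  exact Algebra.IsAlgebraic.perfectField (K := K)

theorem map_genericPoint_eq [IrreducibleSpace X] [IrreducibleSpace Y] (f : X ⟶ Y) [IsDominant f] :
    f (genericPoint X) = genericPoint Y := by
  refine ((genericPoint_spec X).image f.continuous).eq ?_
  have h : closure (f '' Set.univ) = Set.univ := by
    rw [Set.image_univ]; exact f.denseRange.closure_range
  rw [h]
  exact genericPoint_spec Y

/-- Separable extension of function fields gives smoothness at the generic point. -/
theorem genericPoint_mem_smoothLocus [IsIntegral X] [IsIntegral Y] (f : X ⟶ Y) [IsDominant f]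
    [LocallyOfFinitePresentation f]
    (hsep : GeometricallyReduced (f.fiberToSpecResidueField (f (genericPoint X)))) :
    genericPoint X ∈ f.smoothLocus := by
  let ξ := genericPoint X
  let η := f ξ
  let A := Y.presheaf.stalk η
  let L := X.presheaf.stalk ξ
  letI : Field A := (isField_stalk_generic (map_genericPoint_eq f)).toField
  letI : Field L := (isField_stalk_generic (Y := X) rfl).toField
  have hft := LocallyOfFiniteType.stalkMap f ξ
  rw [Scheme.Hom.mem_smoothLocus]
  letI : Algebra A L := (f.stalkMap ξ).hom.toAlgebra
  haveI : Algebra.EssFiniteType A L := hft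
  let F := AlgebraicClosure A
  have hbij : Function.Bijective (Y.residue η).hom :=
    ⟨(Y.residue η).hom.injective, Y.residue_surjective η⟩
  let r : A ≅ Y.residueField η :=
    (RingEquiv.ofBijective (Y.residue η).hom hbij).toCommRingCatIso
  let y₀ : Spec (CommRingCat.of F) ⟶ Spec (Y.residueField η) :=
    Spec.map (r.inv ≫ CommRingCat.ofHom (algebraMap A F))
  let y : Spec (CommRingCat.of F) ⟶ Y := y₀ ≫ Y.fromSpecResidueField η
  have hy : y = Spec.map (CommRingCat.ofHom (algebraMap A F)) ≫ Y.fromSpecStalk η := by
    have hr : Y.residue η ≫ r.inv ≫ CommRingCat.ofHom (algebraMap A F) = CommRingCat.ofHom (algebraMap A F) :=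
      r.hom_inv_id_assoc _
    show Spec.map (r.inv ≫ CommRingCat.ofHom (algebraMap A F)) ≫ Spec.map (Y.residue η) ≫ Y.fromSpecStalk η = _
    rw [← Category.assoc, ← Spec.map_comp]
    exact congrArg (fun t ↦ Spec.map t ≫ Y.fromSpecStalk η) hr
  haveI : AlgebraicGeometry.IsReduced (pullback f y) := by
    haveI : AlgebraicGeometry.IsReduced (pullback (pullback.snd f (Y.fromSpecResidueField η)) y₀) :=
      hsep.geometrically_isReduced _ _ _ (.of_hasPullback _ _)
    exact isReduced_of_isOpenImmersion (pullbackLeftPullbackSndIso f (Y.fromSpecResidueField η) y₀).inv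
  let a := X.fromSpecStalk ξ
  haveI := AlgSpLib.flat_fromSpecStalk ξ
  let sL : Spec L ⟶ Spec A := Spec.map (f.stalkMap ξ)
  let sF : Spec (CommRingCat.of F) ⟶ Spec A := Spec.map (CommRingCat.ofHom (algebraMap A F))
  have ha : a ≫ f = sL ≫ Y.fromSpecStalk η := (Scheme.SpecMap_stalkMap_fromSpecStalk f).symm
  let m : pullback (a ≫ f) y ⟶ pullback f y := pullback.map _ _ _ _ a (𝟙 _) (𝟙 _) (by simp) (by simp)
  have sq : IsPullback m (pullback.fst (a ≫ f) y) (pullback.fst f y) a := by
    refine (IsPullback.of_bot (v₂₁ := pullback.snd f y) (h₃₁ := y) (v₂₂ := f) ?_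
      (pullback.lift_fst _ _ _).symm (IsPullback.of_hasPullback f y)).flip
    rw [show m ≫ pullback.snd f y = pullback.snd (a ≫ f) y from (pullback.lift_snd _ _ _).trans (Category.comp_id _)]
    exact IsPullback.of_hasPullback (a ≫ f) y
  haveI : Flat m := MorphismProperty.of_isPullback sq.flip ‹_›
  haveI : IsPreimmersion m := MorphismProperty.of_isPullback sq.flip inferInstance
  haveI : AlgebraicGeometry.IsReduced (pullback (a ≫ f) y) := by
    haveI : ∀ v : ↥(pullback (a ≫ f) y), _root_.IsReduced ((pullback (a ≫ f) y).presheaf.stalk v) := fun v ↦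
      isReduced_of_injective (RingEquiv.ofBijective (m.stalkMap v).hom (SweepSix.FieldsRed.isIso_stalkMap m v)).symm
        (RingEquiv.injective _)
    exact isReduced_of_isReduced_stalk _
  haveI : Mono (Y.fromSpecStalk η) := inferInstance
  let e : pullback sL sF ≅ pullback (a ≫ f) y :=
    (limit.isoLimitCone ⟨_, pullbackIsPullbackOfCompMono sL sF (Y.fromSpecStalk η)⟩).symm ≪≫
      pullback.congrHom ha.symm hy.symm
  haveI : AlgebraicGeometry.IsReduced (pullback sL sF) := isReduced_of_isOpenImmersion e.hom
  haveI : Algebra.IsGeometricallyReduced A L := by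
    rw [Algebra.isGeometricallyReduced_field_iff]
    haveI : AlgebraicGeometry.IsReduced (pullback (Spec.map (CommRingCat.ofHom (algebraMap A L)))
        (Spec.map (CommRingCat.ofHom (algebraMap A F)))) := ‹AlgebraicGeometry.IsReduced (pullback sL sF)›
    haveI : AlgebraicGeometry.IsReduced (Spec (CommRingCat.of (L ⊗[A] F))) :=
      isReduced_of_isOpenImmersion (pullbackSpecIso A L F).inv
    haveI : _root_.IsReduced (L ⊗[A] F) := (affine_isReduced_iff (CommRingCat.of (L ⊗[A] F))).mp this
    exact isReduced_of_injective (Algebra.TensorProduct.comm A F L) (AlgEquiv.injective _)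
  exact CohenLib.formallySmooth_of_essFiniteType A L

/-- Over a perfect function field regular points of the generic fibre are smooth. -/
theorem mem_smoothLocus_of_regular [IsIntegral Y] [PerfectField Y.functionField] (f : X ⟶ Y)
    [LocallyOfFinitePresentation f] (x : X) (hx : f x = genericPoint Y)
    (hreg : IsRegularLocalRing (X.presheaf.stalk x)) : x ∈ f.smoothLocus := by
  let A := Y.presheaf.stalk (f x)
  letI : Field A := (isField_stalk_generic hx).toField
  haveI : PerfectField A := perfectField_stalk_generic hx
  have hft := LocallyOfFiniteType.stalkMap f x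
  rw [Scheme.Hom.mem_smoothLocus]
  let R := X.presheaf.stalk x
  letI : Algebra A R := (f.stalkMap x).hom.toAlgebra
  haveI : Algebra.EssFiniteType A R := hft
  haveI : Algebra.IsGeometricallyReduced A (IsLocalRing.ResidueField R) :=
    isGeometricallyReduced_of_perfect A _ (isReduced_of_injective (Algebra.TensorProduct.lid A _) (AlgEquiv.injective _))
  exact CohenLib.formallySmooth_of_regular

end

end GeomRedFieldLib
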