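import Groth.Agent.GeomRedFieldLib.AtPoint
import Groth.Prelude.Def_CurvBase

/-!
# The geometrically reduced locus
-/

set_option autoImplicit false
set_option synthInstance.maxHeartbeats 80000

universe u

open CategoryTheory CategoryTheory.Limits AlgebraicGeometry TensorProduct

namespace GeomRedFieldLib

noncomputable section

variable {k : Type u} [Field k]

/-- The prelude's map from the field to a local ring is the one given by the structure morphism. -/
theorem fromSpecStalk_comp_over (X : Scheme.{u}) [X.Over (Spec (CommRingCat.of k))] (x : X) :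
    X.fromSpecStalk x ≫ (X ↘ Spec (CommRingCat.of k)) =
      Spec.map (CommRingCat.ofHom (Curv2.stalkMap k X x)) := by
  simp [Curv2.stalkMap, Coh.toGlobal, CommRingCat.ofHom_comp, Spec.map_comp]
  rw [← Scheme.fromSpecStalk_toSpecΓ_assoc, ← Scheme.toSpecΓ_naturality_assoc]
  simp

/-- A localisation at a larger submonoid of a geometrically reduced localisation is geometrically reduced. -/
theorem isGeometricallyReduced_of_le {T : Type u} [CommRing T] [Algebra k T] {M N : Submonoid T} (h : M ≤ N)
    (hT : Algebra.IsGeometricallyReduced k (Localization M)) : Algebra.IsGeometricallyReduced k (Localization N) := by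
  let g : Localization M →+* Localization N := IsLocalization.map (Localization N) (RingHom.id T) h
  letI := g.toAlgebra
  haveI : IsScalarTower T (Localization M) (Localization N) :=
    IsScalarTower.of_algebraMap_eq fun x ↦ (IsLocalization.map_eq (g := RingHom.id T) h x).symm
  haveI : IsScalarTower k (Localization M) (Localization N) := IsScalarTower.of_algebraMap_eq fun c ↦ by
    rw [IsScalarTower.algebraMap_apply k T (Localization M), IsScalarTower.algebraMap_apply k T (Localization N),
      ← IsScalarTower.algebraMap_apply T (Localization M) (Localization N)]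
  haveI : IsLocalization (N.map (algebraMap T (Localization M))) (Localization N) :=
    IsLocalization.isLocalization_of_submonoid_le (Localization M) (Localization N) M N h
  haveI := hT
  exact isGeometricallyReduced_localization (N.map (algebraMap T (Localization M))) (Localization N)

/-- In a noetherian algebra the geometrically reduced primes form an open set. -/
theorem exists_away_geomRed {T : Type u} [CommRing T] [Algebra k T] [IsNoetherianRing T] (q : Ideal T) [q.IsPrime]
    (hq : Algebra.IsGeometricallyReduced k (Localization.AtPrime q)) :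
    ∃ g ∉ q, Algebra.IsGeometricallyReduced k (Localization.Away g) := by
  classical
  haveI := hq
  haveI : IsReduced (Localization.AtPrime q) := Algebra.isReduced_of_isGeometricallyReduced k
  obtain ⟨t, ht⟩ := IsNoetherian.noetherian (nilradical T)
  have hkill : ∀ y ∈ nilradical T, ∃ s ∉ q, s * y = 0 := fun y hy ↦ by
    have : algebraMap T (Localization.AtPrime q) y = 0 := ((mem_nilradical.mp hy).map _).eq_zero
    obtain ⟨⟨s, hs⟩, hsy⟩ := (IsLocalization.map_eq_zero_iff q.primeCompl _ _).mp this
    exact ⟨s, hs, hsy⟩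
  choose s hs hsy using fun y : t ↦ hkill y.1 (ht ▸ Ideal.subset_span y.2)
  let S₀ := (minimalPrimes.finite_of_isNoetherianRing T).toFinset.filter fun P ↦ ¬ P ≤ q
  have hP : ∀ P : S₀, ∃ c, c ∈ P.1 ∧ c ∉ q := fun P ↦ Set.not_subset.mp (Finset.mem_filter.mp P.2).2
  choose c hcP hcq using hP
  let g := (∏ y : t, s y) * ∏ P : S₀, c P
  have hg : g ∉ q := fun h ↦ by
    rcases Ideal.IsPrime.mem_or_mem ‹q.IsPrime› h with h | h
    · obtain ⟨y, -, hy⟩ := Ideal.IsPrime.prod_mem_iff.mp h
      exact hs y hy
    · obtain ⟨P, -, hP⟩ := Ideal.IsPrime.prod_mem_iff.mp h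
      exact hcq P hP
  refine ⟨g, hg, ?_⟩
  have hkill' : ∀ y ∈ nilradical T, g * y = 0 := fun y hy ↦ by
    rw [← ht] at hy
    induction hy using Submodule.span_induction with
    | mem z hz =>
      rw [show g * z = (∏ P : S₀, c P) * ((∏ y : t, s y) * z) by ring,
        ← Finset.prod_erase_mul Finset.univ s (Finset.mem_univ ⟨z, hz⟩), mul_assoc, hsy ⟨z, hz⟩, mul_zero, mul_zero]
    | zero => rw [mul_zero]
    | add a b _ _ ha hb => rw [mul_add, ha, hb, add_zero]
    | smul r a _ ha => rw [smul_eq_mul, mul_left_comm, ha, mul_zero]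
  let M := Submonoid.powers g
  haveI : IsReduced (Localization.Away g) := ⟨fun z hz ↦ by
    obtain ⟨x, a, rfl⟩ := IsLocalization.exists_mk'_eq M z
    have hx : IsNilpotent (algebraMap T (Localization.Away g) x) := by
      rw [← IsLocalization.mk'_spec (Localization.Away g) x a]
      exact (Commute.all _ _).isNilpotent_mul_right hz
    obtain ⟨n, hn⟩ := hx
    rw [← map_pow] at hn
    obtain ⟨⟨_, m, rfl⟩, hm⟩ := (IsLocalization.map_eq_zero_iff M _ _).mp hn
    have hnil : g * x ∈ nilradical T := mem_nilradical.mpr ⟨m + n, by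
      rw [mul_pow, pow_add, pow_add, show g ^ m * g ^ n * (x ^ m * x ^ n) = g ^ n * x ^ m * (g ^ m * x ^ n) by ring]
      rw [show g ^ m * x ^ n = 0 from hm, mul_zero]⟩
    rw [IsLocalization.mk'_eq_zero_iff]
    exact ⟨⟨g * g, ⟨2, by ring⟩⟩, by show g * g * x = 0; rw [mul_assoc, hkill' _ hnil]⟩⟩
  refine isGeometricallyReduced_of_forall_minimalPrimes fun P' hP'p hP' ↦ ?_
  let P := P'.comap (algebraMap T (Localization.Away g))
  have hdis := ((IsLocalization.isPrime_iff_isPrime_disjoint M (Localization.Away g) P').mp hP'p).2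
  have hgP : g ∉ P := fun h ↦ Set.disjoint_left.mp hdis (Submonoid.mem_powers g) h
  have hPmin : P ∈ minimalPrimes T := by
    obtain ⟨P₀, hP₀, hle⟩ := Ideal.exists_minimalPrimes_le (show (⊥ : Ideal T) ≤ P from bot_le)
    haveI := hP₀.1.1
    have hd₀ : Disjoint (M : Set T) P₀ :=
      Set.disjoint_left.mpr fun a ha ha' ↦ Set.disjoint_left.mp hdis ha (hle ha')
    have h0 := IsLocalization.comap_map_of_isPrime_disjoint M (Localization.Away g) hP₀.1.1 hd₀
    have hmap : P₀.map (algebraMap T (Localization.Away g)) = P' :=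
      le_antisymm (Ideal.map_le_iff_le_comap.mpr hle)
        (hP'.2 ⟨IsLocalization.isPrime_of_isPrime_disjoint M _ P₀ hP₀.1.1 hd₀, bot_le⟩
          (Ideal.map_le_iff_le_comap.mpr hle))
    show P'.comap _ ∈ _
    rw [← hmap]
    exact (show Ideal.comap (algebraMap T (Localization.Away g)) (P₀.map _) = P₀ from h0).symm ▸ hP₀
  have hle : P ≤ q := by
    by_contra hne
    have hmem : P ∈ S₀ := Finset.mem_filter.mpr ⟨(Set.Finite.mem_toFinset _).mpr hPmin, hne⟩
    refine hgP ?_
    show (∏ y : t, s y) * ∏ P : S₀, c P ∈ P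
    exact Ideal.mul_mem_left _ _ (Ideal.prod_mem P (Finset.mem_univ ⟨P, hmem⟩) (hcP ⟨P, hmem⟩))
  haveI : Algebra.IsGeometricallyReduced k (Localization.AtPrime P) :=
    isGeometricallyReduced_of_le (show q.primeCompl ≤ P.primeCompl from fun a ha h ↦ ha (hle h)) hq
  exact isGeometricallyReduced_congr
    ((IsLocalization.localizationLocalizationAtPrimeIsoLocalization M P').restrictScalars k)

variable {X : Scheme.{u}} (f : X ⟶ Spec (CommRingCat.of k))

/-- The local ring at `x` as a `k`-algebra through the structure morphism. -/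
theorem exists_stalkAlgebra (x : X) :
    ∃ _ : Algebra k (X.presheaf.stalk x), X.fromSpecStalk x ≫ f = str k (X.presheaf.stalk x) := by
  obtain ⟨φ, hφ⟩ := Spec.map_surjective (X.fromSpecStalk x ≫ f)
  exact ⟨φ.hom.toAlgebra, hφ.symm⟩

/-- All local rings over `x` in base changes to fields are reduced. -/
def GRAt (x : X) : Prop :=
  ∀ (K : Type u) [Field K] [Algebra k K] (x' : ↥(pullback f (str k K))), pullback.fst f (str k K) x' = x →
    _root_.IsReduced ((pullback f (str k K)).presheaf.stalk x')

theorem grAt_iff {x : X} [Algebra k (X.presheaf.stalk x)]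
    (hR : X.fromSpecStalk x ≫ f = str k (X.presheaf.stalk x)) :
    GRAt f x ↔ Algebra.IsGeometricallyReduced k (X.presheaf.stalk x) :=
  ⟨fun h ↦ isGeometricallyReduced_stalk f hR fun k' _ _ _ _ x' hx ↦ h k' x' hx,
    fun _ K _ _ x' hx ↦ isReduced_stalk_of_geomRed f hR (str k K) x' hx⟩

theorem grAt_chart_iff {T : Type u} [CommRing T] [Algebra k T] (j : Spec (CommRingCat.of T) ⟶ X)
    [IsOpenImmersion j] (hj : j ≫ f = str k T) (q : PrimeSpectrum T) :
    GRAt f (j q) ↔ Algebra.IsGeometricallyReduced k (Localization.AtPrime q.asIdeal) := by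
  obtain ⟨_, hR⟩ := exists_stalkAlgebra f (j q)
  obtain ⟨e⟩ := nonempty_algEquiv_stalk f j hj q hR
  rw [grAt_iff f hR]
  exact ⟨fun _ ↦ isGeometricallyReduced_congr e, fun _ ↦ isGeometricallyReduced_congr e.symm⟩

theorem exists_chart (x : X) :
    ∃ (T : Type u) (_ : CommRing T) (_ : Algebra k T) (j : Spec (CommRingCat.of T) ⟶ X) (_ : IsOpenImmersion j)
      (q : PrimeSpectrum T), j q = x ∧ j ≫ f = str k T := by
  obtain ⟨_, ⟨U : X.Opens, hU, rfl⟩, hxU, -⟩ :=
    X.isBasis_affineOpens.exists_subset_of_mem_open (Set.mem_univ x) isOpen_univ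
  obtain ⟨T, _, _, j, hjo, hr, hj⟩ := exists_algebra f hU
  obtain ⟨q, hq⟩ : x ∈ Set.range j := by rw [hr]; exact hxU
  exact ⟨T, inferInstance, inferInstance, j, hjo, q, hq, hj⟩

/-- Geometric reducedness passes to generisations. -/
theorem GRAt.specializes {x x' : X} (h : x' ⤳ x) (hx : GRAt f x) : GRAt f x' := by
  obtain ⟨T, _, _, j, hjo, q, rfl, hj⟩ := exists_chart f x
  haveI := hjo
  obtain ⟨q', rfl⟩ : x' ∈ Set.range j := h.mem_open j.isOpenEmbedding.isOpen_range (Set.mem_range_self _)
  let q₁ : PrimeSpectrum T := q'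
  have hle : q₁ ≤ q :=
    (PrimeSpectrum.le_iff_specializes _ _).mpr (j.isOpenEmbedding.isEmbedding.isInducing.specializes_iff.mp h)
  rw [grAt_chart_iff f j hj q] at hx
  exact (grAt_chart_iff f j hj q₁).mpr (isGeometricallyReduced_of_le (show q.asIdeal.primeCompl ≤ q₁.asIdeal.primeCompl from fun a ha h' ↦ ha (hle h')) hx)

/-- The geometrically reduced locus is open. -/
theorem isOpen_setOf_grAt [IsLocallyNoetherian X] : IsOpen {x : X | GRAt f x} := by
  refine isOpen_iff_forall_mem_open.mpr fun x hx ↦ ?_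
  obtain ⟨_, ⟨U : X.Opens, hU, rfl⟩, hxU, -⟩ :=
    X.isBasis_affineOpens.exists_subset_of_mem_open (Set.mem_univ x) isOpen_univ
  obtain ⟨T, _, _, j, hjo, hr, hj⟩ := exists_algebra f hU
  haveI := hjo
  haveI : IsLocallyNoetherian (Spec (CommRingCat.of T)) := isLocallyNoetherian_of_isOpenImmersion j
  haveI : IsNoetherianRing T := by
    have h : IsNoetherianRing Γ(Spec (CommRingCat.of T), ⊤) :=
      IsLocallyNoetherian.component_noetherian ⟨⊤, isAffineOpen_top _⟩
    exact isNoetherianRing_of_ringEquiv _ (Scheme.ΓSpecIso (CommRingCat.of T)).commRingCatIsoToRingEquiv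
  obtain ⟨q₀, rfl⟩ : x ∈ Set.range j := by rw [hr]; exact hxU
  let q : PrimeSpectrum T := q₀
  obtain ⟨g, hg, hG⟩ := exists_away_geomRed q.asIdeal ((grAt_chart_iff f j hj q).mp hx)
  refine ⟨j '' (PrimeSpectrum.basicOpen g : Set (PrimeSpectrum T)), ?_, j.isOpenEmbedding.isOpenMap _ (PrimeSpectrum.basicOpen g).2, q, hg, rfl⟩
  rintro _ ⟨p, hp, rfl⟩
  exact (grAt_chart_iff f j hj p).mpr
    (isGeometricallyReduced_of_le (Submonoid.powers_le.mpr hp) hG)

/-- A reduced scheme geometrically reduced at all generic points is geometrically reduced. -/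
theorem gr_of_grAt_generic [AlgebraicGeometry.IsReduced X]
    (h : ∀ x : X, (∀ y : X, y ⤳ x → y = x) → GRAt f x) : GeometricallyReduced f := by
  refine gr_of_charts f fun T _ _ j hjo hj ↦ ?_
  haveI := hjo
  haveI : AlgebraicGeometry.IsReduced (Spec (CommRingCat.of T)) := isReduced_of_isOpenImmersion j
  haveI : _root_.IsReduced T := (affine_isReduced_iff (CommRingCat.of T)).mp this
  refine isGeometricallyReduced_of_forall_minimalPrimes fun P hPp hP ↦ ?_
  let q : PrimeSpectrum T := ⟨P, hPp⟩
  refine (grAt_chart_iff f j hj q).mp (h (j q) fun y hy ↦ ?_)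
  obtain ⟨p, rfl⟩ : y ∈ Set.range j := hy.mem_open j.isOpenEmbedding.isOpen_range (Set.mem_range_self _)
  let p₁ : PrimeSpectrum T := p
  have hle : p₁ ≤ q :=
    (PrimeSpectrum.le_iff_specializes _ _).mpr (j.isOpenEmbedding.isEmbedding.isInducing.specializes_iff.mp hy)
  exact congrArg j (show p₁ = q from le_antisymm hle (hP.2 ⟨p₁.2, bot_le⟩ hle))

/-- Geometrically reduced schemes are geometrically reduced at every point. -/
theorem grAt_of_gr [GeometricallyReduced f] (x : X) : GRAt f x := fun K _ _ x' _ ↦ by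
  haveI : AlgebraicGeometry.IsReduced (pullback f (str k K)) :=
    GeometricallyReduced.geometrically_isReduced _ _ _ (.of_hasPullback _ _)
  infer_instance

end

end GeomRedFieldLib
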