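import Groth.Agent.GeomRedFieldLib.Scheme

/-!
# The reduction of `X_{k'}` is geometrically reduced for a large finite purely inseparable `k'`
-/

set_option autoImplicit false
set_option synthInstance.maxHeartbeats 80000

universe u

open CategoryTheory CategoryTheory.Limits AlgebraicGeometry TensorProduct

namespace GeomRedFieldLib

noncomputable section

variable {k : Type u} [Field k] {X : Scheme.{u}} (f : X ⟶ Spec (CommRingCat.of k))

/-- A finite family of affine charts whose union is dense. -/
theorem exists_charts (hirr : (irreducibleComponents (X : Type u)).Finite) :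
    ∃ (ι : Type u) (_ : Finite ι) (S : ι → Type u) (_ : ∀ i, CommRing (S i)) (_ : ∀ i, Algebra k (S i))
      (j : ∀ i, Spec (CommRingCat.of (S i)) ⟶ X), (∀ i, IsOpenImmersion (j i)) ∧ (∀ i, j i ≫ f = str k (S i)) ∧
        Dense (⋃ i, Set.range (j i)) := by
  classical
  let ι := irreducibleComponents (X : Type u)
  haveI : Finite ι := hirr.to_subtype
  have hgen : ∀ Z : ι, ∃ z, IsGenericPoint z (Z : Set X) := fun Z ↦
    ⟨Z.2.1.genericPoint, by
      have := Z.2.1.isGenericPoint_genericPoint_closure
      rwa [(isClosed_of_mem_irreducibleComponents _ Z.2).closure_eq] at this⟩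
  choose z hz using hgen
  have hU : ∀ Z : ι, ∃ U : X.Opens, IsAffineOpen U ∧ z Z ∈ U := fun Z ↦ by
    obtain ⟨_, ⟨U : X.Opens, hU, rfl⟩, hxU, -⟩ :=
      X.isBasis_affineOpens.exists_subset_of_mem_open (Set.mem_univ (z Z)) isOpen_univ
    exact ⟨U, hU, hxU⟩
  choose U hU hzU using hU
  choose S i1 i2 j hj hr hf using fun Z ↦ exists_algebra f (hU Z)
  refine ⟨ι, inferInstance, S, i1, i2, j, hj, hf, ?_⟩
  rw [dense_iff_closure_eq, Set.eq_univ_iff_forall]
  intro x
  let Z : ι := ⟨irreducibleComponent x, irreducibleComponent_mem_irreducibleComponents x⟩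
  have h : z Z ⤳ x := (hz Z).specializes mem_irreducibleComponent
  exact h.mem_closed isClosed_closure (subset_closure (Set.mem_iUnion.mpr ⟨Z, by rw [hr]; exact hzU Z⟩))

/-- Affine chart of the base change, with the projection to the new base. -/
theorem exists_bcChart (k' : Type u) [Field k'] [Algebra k k'] {S : Type u} [CommRing S] [Algebra k S]
    (j : Spec (CommRingCat.of S) ⟶ X) [IsOpenImmersion j] (hj : j ≫ f = str k S) :
    ∃ m : Spec (CommRingCat.of (k' ⊗[k] S)) ⟶ pullback f (str k k'), IsOpenImmersion m ∧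
      m ≫ pullback.snd f (str k k') = str k' (k' ⊗[k] S) ∧
      Set.range m = pullback.fst f (str k k') ⁻¹' Set.range j := by
  let m₀ : pullback (str k S) (str k k') ⟶ pullback f (str k k') :=
    pullback.map _ _ _ _ j (𝟙 _) (𝟙 _) (by simp [hj]) (by simp)
  haveI : IsOpenImmersion m₀ := inferInstanceAs (IsOpenImmersion (pullback.map _ _ _ _ j (𝟙 _) (𝟙 _) _ _))
  let e : Spec (CommRingCat.of (k' ⊗[k] S)) ≅ pullback (str k S) (str k k') :=
    (pullbackSpecIso k k' S).symm ≪≫ pullbackSymmetry _ _
  refine ⟨e.hom ≫ m₀, inferInstance, ?_, ?_⟩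
  · rw [Category.assoc, show m₀ ≫ pullback.snd f (str k k') = pullback.snd (str k S) (str k k') from
      (pullback.lift_snd _ _ _).trans (Category.comp_id _)]
    show ((pullbackSpecIso k k' S).inv ≫ (pullbackSymmetry _ _).hom) ≫ _ = _
    rw [Category.assoc, pullbackSymmetry_hom_comp_snd, pullbackSpecIso_inv_fst]
  · rw [Scheme.Hom.comp_base, TopCat.coe_comp, Set.range_comp, Function.Surjective.range_eq (f := ⇑e.hom) (Scheme.homeoOfIso e).surjective,
      Set.image_univ]
    ext w
    constructor
    · rintro ⟨v, rfl⟩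
      exact ⟨pullback.fst (str k S) (str k k') v, by
        rw [← Scheme.Hom.comp_apply, ← Scheme.Hom.comp_apply, pullback.lift_fst]⟩
    · rintro ⟨s, hs⟩
      have sq : IsPullback m₀ (pullback.fst (str k S) (str k k')) (pullback.fst f (str k k')) j := by
        refine (IsPullback.of_bot (v₂₁ := pullback.snd f (str k k')) (h₃₁ := str k k') (v₂₂ := f) ?_
          (pullback.lift_fst _ _ _).symm (IsPullback.of_hasPullback f (str k k'))).flip
        rw [show m₀ ≫ pullback.snd f (str k k') = pullback.snd (str k S) (str k k') from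
          (pullback.lift_snd _ _ _).trans (Category.comp_id _), hj]
        exact IsPullback.of_hasPullback (str k S) (str k k')
      obtain ⟨v, hv, -⟩ := Scheme.exists_preimage_of_isPullback sq w s hs.symm
      exact ⟨v, hv⟩

/-- For a large finite purely inseparable extension the reduction of the base change is geometrically reduced. -/
theorem exists_reduction_gr [LocallyOfFiniteType f] (hirr : (irreducibleComponents (X : Type u)).Finite) :
    ∃ (k' : Type u) (_ : Field k') (_ : Algebra k k'), FiniteDimensional k k' ∧ IsPurelyInseparable k k' ∧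
      ∀ {Z : Scheme.{u}} [AlgebraicGeometry.IsReduced Z] (i : Z ⟶ pullback f (str k k')) [IsClosedImmersion i]
        [Surjective i], GeometricallyReduced (i ≫ pullback.snd f (str k k')) := by
  obtain ⟨ι, _, S, _, _, j, hjo, hj, hd⟩ := exists_charts f hirr
  haveI := hjo
  haveI hft : ∀ l, Algebra.FiniteType k (S l) := fun l ↦ finiteType_of_chart f (j l) (hj l)
  obtain ⟨k', _, _, hfin, hpi, hgr⟩ := exists_finite_purelyInseparable k S
  refine ⟨k', inferInstance, inferInstance, hfin, hpi, fun {Z} _ i _ _ ↦ ?_⟩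
  haveI := hgr
  haveI := hpi
  let p := pullback.fst f (str k k')
  let q := pullback.snd f (str k k')
  choose m hmo hmq hmr using fun l ↦ exists_bcChart f k' (j l) (hj l)
  haveI := hmo
  have hagr : ∀ l, GeometricallyReduced (pullback.fst i (m l) ≫ i ≫ q) := fun l ↦ by
    haveI : AlgebraicGeometry.IsReduced (pullback i (m l)) := isReduced_of_isOpenImmersion (pullback.fst i (m l))
    haveI := gr_of_reduced_chart (k := k') (k' ⊗[k] S l) (pullback.snd i (m l))
    show GeometricallyReduced (pullback.fst i (m l) ≫ i ≫ q)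
    rw [pullback.condition_assoc, hmq]
    assumption
  let W : Z.Opens := ⨆ l, (pullback.fst i (m l)).opensRange
  haveI : GeometricallyReduced (W.ι ≫ i ≫ q) := by
    refine gr_of_cover _ (W.toScheme.openCoverOfIsOpenCover (fun l ↦ W.ι ⁻¹ᵁ (pullback.fst i (m l)).opensRange)
      (TopologicalSpace.IsOpenCover.mk (by rw [← Scheme.Hom.preimage_iSup]; exact W.ι_preimage_self))) fun (l : ι) ↦ ?_
    let t : (W.ι ⁻¹ᵁ (pullback.fst i (m l)).opensRange).toScheme ⟶ pullback i (m l) :=
      IsOpenImmersion.lift (pullback.fst i (m l)) ((W.ι ⁻¹ᵁ (pullback.fst i (m l)).opensRange).ι ≫ W.ι) (by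
        rintro _ ⟨v, rfl⟩
        exact v.2)
    haveI : IsOpenImmersion t := by
      have e : t ≫ pullback.fst i (m l) = (W.ι ⁻¹ᵁ (pullback.fst i (m l)).opensRange).ι ≫ W.ι :=
        IsOpenImmersion.lift_fac _ _ _
      have : IsOpenImmersion (t ≫ pullback.fst i (m l)) := by rw [e]; infer_instance
      exact IsOpenImmersion.of_comp t (pullback.fst i (m l))
    haveI := hagr l
    show GeometricallyReduced ((W.ι ⁻¹ᵁ (pullback.fst i (m l)).opensRange).ι ≫ W.ι ≫ i ≫ q)
    rw [← Category.assoc, ← IsOpenImmersion.lift_fac (pullback.fst i (m l)) ((W.ι ⁻¹ᵁ (pullback.fst i (m l)).opensRange).ι ≫ W.ι) _, Category.assoc]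
    exact gr_comp _ t
  haveI : IsLocallyNoetherian Z := LocallyOfFiniteType.isLocallyNoetherian (i ≫ q)
  refine gr_of_dense_open (i ≫ q) W ?_
  have hW : (W : Set Z) = i ⁻¹' (p ⁻¹' ⋃ l, Set.range (j l)) := by
    simp only [W, TopologicalSpace.Opens.coe_iSup, Scheme.Hom.coe_opensRange, Set.preimage_iUnion]
    refine Set.iUnion_congr fun l ↦ ?_
    rw [← hmr l]
    exact Scheme.Pullback.range_fst i (m l)
  rw [hW]
  exact (hd.preimage p.isOpenMap).preimage
    (isHomeomorph_iff_isEmbedding_surjective.mpr ⟨i.isClosedEmbedding.isEmbedding, i.surjective⟩).isOpenMap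

/-- Geometric reducedness can be checked on the rings of affine charts. -/
theorem gr_of_charts
    (h : ∀ (T : Type u) [CommRing T] [Algebra k T] (j : Spec (CommRingCat.of T) ⟶ X), IsOpenImmersion j →
      j ≫ f = str k T → Algebra.IsGeometricallyReduced k T) : GeometricallyReduced f := by
  refine gr_of_cover f (X.openCoverOfIsOpenCover (fun U : X.affineOpens ↦ U.1) (iSup_affineOpens_eq_top X))
    fun (U : X.affineOpens) ↦ ?_
  obtain ⟨T, _, _, j, hj, hr, hf⟩ := exists_algebra f U.2
  haveI := hj
  haveI := h T j hj hf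
  haveI := gr_str (k := k) T
  let e := IsOpenImmersion.isoOfRangeEq U.1.ι j (by rw [Scheme.Opens.range_ι, hr])
  show GeometricallyReduced (U.1.ι ≫ f)
  rw [← IsOpenImmersion.isoOfRangeEq_hom_fac U.1.ι j (by rw [Scheme.Opens.range_ι, hr]), Category.assoc, hf]
  exact gr_comp _ _

/-- The reduction of a scheme is reduced. -/
theorem isReduced_nilradical (Y : Scheme.{u}) : AlgebraicGeometry.IsReduced Y.nilradical.subscheme := by
  rw [← Scheme.IdealSheafData.vanishingIdeal_top]
  let I := Scheme.IdealSheafData.vanishingIdeal (X := Y) ⊤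
  have : ∀ i, AlgebraicGeometry.IsReduced (I.subschemeCover.openCover.X i) := fun (U : Y.affineOpens) => by
    change AlgebraicGeometry.IsReduced (Spec (CommRingCat.of (Γ(Y, U) ⧸ I.ideal U)))
    have : _root_.IsReduced (Γ(Y, U) ⧸ I.ideal U) :=
      (Ideal.isRadical_iff_quotient_reduced _).1 (by
        rw [Scheme.IdealSheafData.vanishingIdeal_ideal]
        exact PrimeSpectrum.isRadical_vanishingIdeal _)
    infer_instance
  exact IsReduced.of_openCover (𝒰 := I.subschemeCover.openCover)

/-- The reduction maps onto the scheme. -/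
theorem surjective_nilradical (Y : Scheme.{u}) : Surjective Y.nilradical.subschemeι := ⟨fun y ↦ by
  have : y ∈ Set.range Y.nilradical.subschemeι := by
    rw [Scheme.IdealSheafData.range_subschemeι, Scheme.support_nilradical]; trivial
  exact this⟩

end

end GeomRedFieldLib
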