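import Groth.Agent.GeomRedFieldLib.Points
import Groth.Agent.S4628

/-!
# Geometric reducedness at a point in terms of the local ring
-/

set_option autoImplicit false
set_option synthInstance.maxHeartbeats 80000

universe u

open CategoryTheory CategoryTheory.Limits AlgebraicGeometry TensorProduct

namespace GeomRedFieldLib

noncomputable section

variable {k : Type u} [Field k] {X : Scheme.{u}} (f : X ⟶ Spec (CommRingCat.of k))

/-- The local ring at `x`, over `k`, maps onto the part of a base change lying over `x`. -/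
theorem exists_stalk_pullback {x : X} [Algebra k (X.presheaf.stalk x)]
    (hR : X.fromSpecStalk x ≫ f = str k (X.presheaf.stalk x)) {S : Scheme.{u}} (g : S ⟶ Spec (CommRingCat.of k)) :
    ∃ m : pullback (str k (X.presheaf.stalk x)) g ⟶ pullback f g, Flat m ∧ IsPreimmersion m ∧
      ∀ w, pullback.fst f g w = x → w ∈ Set.range m := by
  haveI := AlgSpLib.flat_fromSpecStalk x
  let sR := str k (X.presheaf.stalk x)
  let m : pullback sR g ⟶ pullback f g :=
    pullback.map _ _ _ _ (X.fromSpecStalk x) (𝟙 _) (𝟙 _) (by simp [sR, hR]) (by simp)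
  have sq : IsPullback m (pullback.fst sR g) (pullback.fst f g) (X.fromSpecStalk x) := by
    refine (IsPullback.of_bot (v₂₁ := pullback.snd f g) (h₃₁ := g) (v₂₂ := f) ?_
      (pullback.lift_fst _ _ _).symm (IsPullback.of_hasPullback f g)).flip
    rw [show m ≫ pullback.snd f g = pullback.snd sR g from
      (pullback.lift_snd _ _ _).trans (Category.comp_id _), hR]
    exact IsPullback.of_hasPullback sR g
  haveI : Flat m := MorphismProperty.of_isPullback sq.flip ‹_›
  haveI : IsPreimmersion m := MorphismProperty.of_isPullback sq.flip inferInstance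
  refine ⟨m, inferInstance, inferInstance, fun w hw ↦ ?_⟩
  obtain ⟨v, hv, -⟩ := Scheme.exists_preimage_of_isPullback sq w (IsLocalRing.closedPoint _)
    (hw.trans Scheme.fromSpecStalk_closedPoint.symm)
  exact ⟨v, hv⟩

/-- A geometrically reduced local ring gives reduced local rings over it in every reduced base change. -/
theorem isReduced_stalk_of_geomRed {x : X} [Algebra k (X.presheaf.stalk x)]
    (hR : X.fromSpecStalk x ≫ f = str k (X.presheaf.stalk x)) [Algebra.IsGeometricallyReduced k (X.presheaf.stalk x)]
    {S : Scheme.{u}} (g : S ⟶ Spec (CommRingCat.of k)) [AlgebraicGeometry.IsReduced S] (w : ↥(pullback f g))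
    (hw : pullback.fst f g w = x) : _root_.IsReduced ((pullback f g).presheaf.stalk w) := by
  obtain ⟨m, hfl, hpre, hm⟩ := exists_stalk_pullback f hR g
  haveI := hfl
  haveI := hpre
  obtain ⟨v, rfl⟩ := hm w hw
  haveI := gr_str (k := k) (X.presheaf.stalk x)
  haveI : AlgebraicGeometry.IsReduced (pullback (str k (X.presheaf.stalk x)) g) :=
    Groth.Agent.S4628.result (str k (X.presheaf.stalk x)) g
  exact isReduced_of_injective (RingEquiv.ofBijective (m.stalkMap v).hom (SweepSix.FieldsRed.isIso_stalkMap m v))
    (RingEquiv.injective _)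

/-- Reduced local rings over `x` in all finite purely inseparable base changes give a geometrically reduced local ring. -/
theorem isGeometricallyReduced_stalk {x : X} [Algebra k (X.presheaf.stalk x)]
    (hR : X.fromSpecStalk x ≫ f = str k (X.presheaf.stalk x))
    (h : ∀ (k' : Type u) [Field k'] [Algebra k k'] [FiniteDimensional k k'] [IsPurelyInseparable k k']
      (x' : ↥(pullback f (str k k'))), pullback.fst f (str k k') x' = x →
      _root_.IsReduced ((pullback f (str k k')).presheaf.stalk x')) :
    Algebra.IsGeometricallyReduced k (X.presheaf.stalk x) := by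
  haveI := AlgSpLib.flat_fromSpecStalk x
  let R := X.presheaf.stalk x
  refine isGeometricallyReduced_of_finite_purelyInseparable R fun k' _ _ _ _ ↦ ?_
  suffices _root_.IsReduced (R ⊗[k] k') from
    isReduced_of_injective (Algebra.TensorProduct.comm k k' R) (AlgEquiv.injective _)
  refine isReduced_ofLocalizationMaximal _ fun M hM ↦ ?_
  let m : pullback (str k R) (str k k') ⟶ pullback f (str k k') :=
    pullback.map _ _ _ _ (X.fromSpecStalk x) (𝟙 _) (𝟙 _) (by simp [R, hR]) (by simp)
  have sq : IsPullback m (pullback.fst (str k R) (str k k')) (pullback.fst f (str k k')) (X.fromSpecStalk x) := by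
    refine (IsPullback.of_bot (v₂₁ := pullback.snd f (str k k')) (h₃₁ := str k k') (v₂₂ := f) ?_
      (pullback.lift_fst _ _ _).symm (IsPullback.of_hasPullback f (str k k'))).flip
    rw [show m ≫ pullback.snd f (str k k') = pullback.snd (str k R) (str k k') from
      (pullback.lift_snd _ _ _).trans (Category.comp_id _), hR]
    exact IsPullback.of_hasPullback (str k R) (str k k')
  haveI : Flat m := MorphismProperty.of_isPullback sq.flip ‹_›
  haveI : IsPreimmersion m := MorphismProperty.of_isPullback sq.flip inferInstance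
  let e := pullbackSpecIso k R k'
  let v : ↥(Spec (CommRingCat.of (R ⊗[k] k'))) := (⟨M, hM.isPrime⟩ : PrimeSpectrum (R ⊗[k] k'))
  have hv : pullback.fst f (str k k') ((e.inv ≫ m) v) = x := by
    rw [← Scheme.Hom.comp_apply, Category.assoc, sq.w, ← Category.assoc, pullbackSpecIso_inv_fst,
      Scheme.Hom.comp_apply]
    refine (congrArg (X.fromSpecStalk x) (?_ : _ = IsLocalRing.closedPoint R)).trans Scheme.fromSpecStalk_closedPoint
    exact PrimeSpectrum.ext (IsLocalRing.eq_maximalIdeal (Ideal.isMaximal_comap_of_isIntegral_of_isMaximal M))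
  haveI := h k' ((e.inv ≫ m) v) hv
  haveI : _root_.IsReduced ((Spec (CommRingCat.of (R ⊗[k] k'))).presheaf.stalk v) :=
    isReduced_of_injective
      (RingEquiv.ofBijective ((e.inv ≫ m).stalkMap v).hom (SweepSix.FieldsRed.isIso_stalkMap (e.inv ≫ m) v)).symm
      (RingEquiv.injective _)
  exact isReduced_of_injective (Spec.stalkIso (CommRingCat.of (R ⊗[k] k')) v).commRingCatIsoToRingEquiv.symm
    (RingEquiv.injective _)

theorem specMap_stalkIso_fromSpecStalk (R : CommRingCat.{u}) (x : ↥(Spec R)) :
    Spec.map (Spec.stalkIso R x).hom ≫ (Spec R).fromSpecStalk x =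
      Spec.map (CommRingCat.ofHom (algebraMap R (Localization.AtPrime x.asIdeal))) := by
  rw [Spec.fromSpecStalk_eq, ← Spec.map_comp, Category.assoc, Spec.germ_stalkMapIso_hom, Iso.inv_hom_id_assoc]

/-- On a chart the local ring over `k` is the localisation. -/
theorem nonempty_algEquiv_stalk {T : Type u} [CommRing T] [Algebra k T] (j : Spec (CommRingCat.of T) ⟶ X)
    [IsOpenImmersion j] (hj : j ≫ f = str k T) (q : PrimeSpectrum T) [Algebra k (X.presheaf.stalk (j q))]
    (hR : X.fromSpecStalk (j q) ≫ f = str k (X.presheaf.stalk (j q))) :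
    Nonempty (X.presheaf.stalk (j q) ≃ₐ[k] Localization.AtPrime q.asIdeal) := by
  let e1 := (asIso (j.stalkMap q)).commRingCatIsoToRingEquiv
  let e2 := (Spec.stalkIso (CommRingCat.of T) q).commRingCatIsoToRingEquiv
  let φ : CommRingCat.of k ⟶ X.presheaf.stalk (j q) := CommRingCat.ofHom (algebraMap k (X.presheaf.stalk (j q)))
  let ι : CommRingCat.of T ⟶ CommRingCat.of (Localization.AtPrime q.asIdeal) :=
    CommRingCat.ofHom (algebraMap T (Localization.AtPrime q.asIdeal))
  let g : CommRingCat.of k ⟶ CommRingCat.of (Localization.AtPrime q.asIdeal) :=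
    φ ≫ j.stalkMap q ≫ (Spec.stalkIso (CommRingCat.of T) q).hom
  have hg : g = CommRingCat.ofHom (algebraMap k T) ≫ ι := by
    apply Spec.map_injective
    refine ((Spec.map_comp _ _).trans (congrArg (fun t ↦ t ≫ Spec.map φ) (Spec.map_comp _ _))).trans ?_
    refine ((Category.assoc _ _ _).trans ?_).trans (Spec.map_comp _ _).symm
    refine (congrArg (fun t ↦ Spec.map (Spec.stalkIso (CommRingCat.of T) q).hom ≫ t)
      ((congrArg (fun t ↦ Spec.map (j.stalkMap q) ≫ t) hR.symm).trans
        ((Category.assoc _ _ _).symm.trans ((congrArg (fun t ↦ t ≫ f) (Scheme.SpecMap_stalkMap_fromSpecStalk j)).trans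
          ((Category.assoc _ _ _).trans (congrArg (fun t ↦ _ ≫ t) hj)))))).trans ?_
    exact (Category.assoc _ _ _).symm.trans
      (congrArg (fun t ↦ t ≫ str k T) (specMap_stalkIso_fromSpecStalk (CommRingCat.of T) q))
  exact ⟨AlgEquiv.ofRingEquiv (f := e1.trans e2) fun c ↦ congr_arg (fun t ↦ t.hom c) hg⟩

end

end GeomRedFieldLib
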