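import Groth.Agent.GeomRedFieldLib.Generic
import Mathlib.AlgebraicGeometry.Morphisms.QuasiSeparated
import Mathlib.FieldTheory.Perfect

/-!
# Function fields of schemes over fields of characteristic zero
-/

set_option autoImplicit false

universe u

open CategoryTheory AlgebraicGeometry

namespace GeomRedFieldLib

theorem perfectField_functionField_of_charZero {k : Type u} [Field k] [CharZero k] {Y : Scheme.{u}} [IsIntegral Y]
    (q : Y ⟶ Spec (CommRingCat.of k)) : PerfectField Y.functionField := by
  obtain ⟨φ, -⟩ := Spec.map_surjective (Y.fromSpecStalk (genericPoint Y) ≫ q)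
  haveI : CharZero Y.functionField := charZero_of_injective_ringHom (φ.hom : k →+* Y.functionField).injective
  exact PerfectField.ofCharZero

/-- In characteristic zero a dominant morphism of integral schemes is smooth at the generic point. -/
theorem genericPoint_mem_smoothLocus_of_perfect {X Y : Scheme.{u}} [IsIntegral X] [IsIntegral Y] (f : X ⟶ Y)
    [IsDominant f] [LocallyOfFinitePresentation f] [PerfectField Y.functionField] :
    genericPoint X ∈ f.smoothLocus := by
  refine mem_smoothLocus_of_regular f _ (map_genericPoint_eq f) ?_
  letI : Field (X.presheaf.stalk (genericPoint X)) := (isField_stalk_generic (Y := X) rfl).toField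
  exact IsRegularLocalRing.of_ringEquiv (RingEquiv.refl (X.presheaf.stalk (genericPoint X)))

end GeomRedFieldLib
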