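import Groth.Agent.GeomRedFieldLib.Algebra
import Mathlib.RingTheory.LocalProperties.Reduced
import Mathlib.RingTheory.Smooth.Locus
import Mathlib.RingTheory.TensorProduct.Pi

/-!
# Geometric reducedness, localisations and smoothness at minimal primes
-/

set_option autoImplicit false

universe u

open TensorProduct

namespace GeomRedFieldLib

noncomputable section

variable {k : Type u} [Field k]

/-- Localisations of geometrically reduced algebras are geometrically reduced. -/
theorem isGeometricallyReduced_localization {T : Type u} [CommRing T] [Algebra k T]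
    [Algebra.IsGeometricallyReduced k T] (M : Submonoid T) (L : Type u) [CommRing L] [Algebra T L] [Algebra k L]
    [IsScalarTower k T L] [IsLocalization M L] : Algebra.IsGeometricallyReduced k L := by
  rw [Algebra.isGeometricallyReduced_field_iff]
  let Ω := AlgebraicClosure k
  haveI : IsReduced (T ⊗[k] Ω) :=
    isReduced_of_injective (Algebra.TensorProduct.comm k T Ω) (AlgEquiv.injective _)
  letI : Algebra (T ⊗[k] Ω) (L ⊗[k] Ω) :=
    (Algebra.TensorProduct.map (IsScalarTower.toAlgHom k T L) (AlgHom.id k Ω)).toRingHom.toAlgebra
  haveI : IsScalarTower T (T ⊗[k] Ω) (L ⊗[k] Ω) := IsScalarTower.of_algebraMap_eq fun a ↦ by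
    show algebraMap T L a ⊗ₜ[k] (1 : Ω) = Algebra.TensorProduct.map (IsScalarTower.toAlgHom k T L) (AlgHom.id k Ω) (a ⊗ₜ 1)
    rfl
  haveI : IsLocalization (Algebra.algebraMapSubmonoid (T ⊗[k] Ω) M) (L ⊗[k] Ω) :=
    IsLocalization.tensorProduct_tensorProduct k Ω M L (RingHom.ext fun x ↦ by
      show Algebra.TensorProduct.map (IsScalarTower.toAlgHom k T L) (AlgHom.id k Ω) ((1 : T) ⊗ₜ x) = (1 : L) ⊗ₜ x
      simp)
  haveI : IsReduced (L ⊗[k] Ω) :=
    isReduced_localizationPreserves (Algebra.algebraMapSubmonoid (T ⊗[k] Ω) M) (L ⊗[k] Ω) inferInstance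
  exact isReduced_of_injective (Algebra.TensorProduct.comm k Ω L) (AlgEquiv.injective _)

/-- A reduced algebra with geometrically reduced localisations at its minimal primes is geometrically reduced. -/
theorem isGeometricallyReduced_of_minimalPrimes {T : Type u} [CommRing T] [Algebra k T] [IsReduced T]
    (hfin : (minimalPrimes T).Finite)
    (h : ∀ (P : Ideal T) [P.IsPrime], P ∈ minimalPrimes T → Algebra.IsGeometricallyReduced k (Localization.AtPrime P)) :
    Algebra.IsGeometricallyReduced k T := by
  classical
  haveI := hfin.to_subtype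
  haveI : Fintype (minimalPrimes T) := Fintype.ofFinite _
  haveI hp : ∀ P : minimalPrimes T, P.1.IsPrime := fun P ↦ P.2.1.1
  let L : minimalPrimes T → Type u := fun P ↦ Localization.AtPrime P.1
  let f : T →ₐ[k] ∀ P, L P := AlgHom.pi fun P ↦ IsScalarTower.toAlgHom k T (L P)
  have hf : Function.Injective f := by
    rw [injective_iff_map_eq_zero]
    intro x hx
    suffices x ∈ nilradical T by rwa [nilradical_eq_zero, Ideal.zero_eq_bot, Ideal.mem_bot] at this
    rw [nilradical_eq_sInf, Submodule.mem_sInf]
    intro Q hQ
    haveI : Ideal.IsPrime Q := hQ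
    obtain ⟨P, hP, hPQ⟩ := Ideal.exists_minimalPrimes_le (show (⊥ : Ideal T) ≤ Q from bot_le)
    haveI := hP.1.1
    have h0 : algebraMap T (Localization.AtPrime P) x = 0 := congrFun hx ⟨P, hP⟩
    obtain ⟨⟨s, hs⟩, hsx⟩ := (IsLocalization.map_eq_zero_iff P.primeCompl _ _).mp h0
    exact hPQ ((hP.1.1.mem_or_mem (hsx ▸ P.zero_mem : s * x ∈ P)).resolve_left hs)
  haveI : Algebra.IsGeometricallyReduced k (∀ P, L P) := by
    rw [Algebra.isGeometricallyReduced_field_iff]
    haveI : ∀ P, IsReduced (AlgebraicClosure k ⊗[k] L P) := fun P ↦ by
      haveI := h P.1 P.2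
      infer_instance
    exact isReduced_of_injective (Algebra.TensorProduct.piRight k (AlgebraicClosure k) (AlgebraicClosure k) L)
      (AlgEquiv.injective _)
  exact .of_injective f hf

/-- Geometric reducedness of a reduced algebra can be checked at its minimal primes (no finiteness needed). -/
theorem isGeometricallyReduced_of_forall_minimalPrimes {T : Type u} [CommRing T] [Algebra k T] [IsReduced T]
    (h : ∀ (P : Ideal T) [P.IsPrime], P ∈ minimalPrimes T → Algebra.IsGeometricallyReduced k (Localization.AtPrime P)) :
    Algebra.IsGeometricallyReduced k T := by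
  refine .of_forall_fg fun B hB ↦ ?_
  haveI : Algebra.FiniteType k B := (Subalgebra.fg_iff_finiteType _).mp hB
  haveI : IsNoetherianRing B := Algebra.FiniteType.isNoetherianRing k B
  haveI : IsReduced B := isReduced_of_injective B.val Subtype.val_injective
  refine isGeometricallyReduced_of_minimalPrimes (minimalPrimes.finite_of_isNoetherianRing B) fun p hp₀ hp ↦ ?_
  obtain ⟨P, hP, hPp⟩ := Ideal.exists_minimalPrimes_comap_eq (I := (⊥ : Ideal T)) B.val.toRingHom p (by
    rw [show Ideal.comap B.val.toRingHom ⊥ = (⊥ : Ideal B) from
      (RingHom.injective_iff_ker_eq_bot _).mp Subtype.val_injective]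
    exact hp)
  haveI := hP.1.1
  haveI := h P hP
  let φ : Localization.AtPrime p →ₐ[k] Localization.AtPrime P :=
    { Localization.localRingHom p P B.val.toRingHom hPp.symm with
      commutes' := fun c ↦ by
        show Localization.localRingHom p P B.val.toRingHom hPp.symm _ = _
        rw [IsScalarTower.algebraMap_apply k B (Localization.AtPrime p), Localization.localRingHom_to_map,
          IsScalarTower.algebraMap_apply k T (Localization.AtPrime P)]
        rfl }
  haveI : Ring.KrullDimLE 0 (Localization.AtPrime p) :=
    ⟨le_of_eq (by show ringKrullDim (Localization.AtPrime p) = _; rw [IsLocalization.AtPrime.ringKrullDim_eq_height p (Localization.AtPrime p),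
      Ideal.height_eq_zero_iff.mpr hp]; rfl)⟩
  letI : Field (Localization.AtPrime p) := (Ring.KrullDimLE.isField_of_isReduced (R := Localization.AtPrime p)).toField
  exact .of_injective φ φ.toRingHom.injective

/-- Being geometrically reduced transfers along isomorphisms. -/
theorem isGeometricallyReduced_congr {T T' : Type u} [CommRing T] [Algebra k T] [CommRing T'] [Algebra k T']
    (e : T ≃ₐ[k] T') [Algebra.IsGeometricallyReduced k T] : Algebra.IsGeometricallyReduced k T' :=
  .of_injective e.symm.toAlgHom e.symm.injective

/-- A reduced algebra of finite type over a field is smooth at each minimal prime where it is geometrically reduced. -/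
theorem isSmoothAt_of_minimalPrime {T : Type u} [CommRing T] [Algebra k T] [Algebra.FiniteType k T]
    (P : Ideal T) [P.IsPrime] (hP : P ∈ minimalPrimes T)
    (h : Algebra.IsGeometricallyReduced k (Localization.AtPrime P)) : Algebra.IsSmoothAt k P := by
  haveI := h
  haveI : IsReduced (Localization.AtPrime P) := Algebra.isReduced_of_isGeometricallyReduced k
  haveI : Ring.KrullDimLE 0 (Localization.AtPrime P) :=
    ⟨le_of_eq (by show ringKrullDim (Localization.AtPrime P) = _; rw [IsLocalization.AtPrime.ringKrullDim_eq_height P (Localization.AtPrime P),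
      Ideal.height_eq_zero_iff.mpr hP]; rfl)⟩
  letI : Field (Localization.AtPrime P) := (Ring.KrullDimLE.isField_of_isReduced (R := Localization.AtPrime P)).toField
  haveI : Algebra.EssFiniteType T (Localization.AtPrime P) := .of_isLocalization _ P.primeCompl
  haveI : Algebra.EssFiniteType k (Localization.AtPrime P) := .comp k T _
  exact CohenLib.formallySmooth_of_essFiniteType k (Localization.AtPrime P)

/-- Smoothness at a minimal prime implies geometric reducedness of the localisation there. -/
theorem isGeometricallyReduced_of_isSmoothAt {T : Type u} [CommRing T] [Algebra k T] [Algebra.FiniteType k T]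
    (P : Ideal T) [P.IsPrime] (hP : P ∈ minimalPrimes T) (h : Algebra.IsSmoothAt k P) :
    Algebra.IsGeometricallyReduced k (Localization.AtPrime P) := by
  haveI := h
  haveI : IsNoetherianRing T := Algebra.FiniteType.isNoetherianRing k T
  haveI : IsNoetherianRing (Localization.AtPrime P) := IsLocalization.isNoetherianRing P.primeCompl _ inferInstance
  haveI : Ring.KrullDimLE 0 (Localization.AtPrime P) :=
    ⟨le_of_eq (by show ringKrullDim (Localization.AtPrime P) = _; rw [IsLocalization.AtPrime.ringKrullDim_eq_height P (Localization.AtPrime P),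
      Ideal.height_eq_zero_iff.mpr hP]; rfl)⟩
  haveI : IsArtinianRing (Localization.AtPrime P) := isArtinianRing_iff_isNoetherianRing_krullDimLE_zero.mpr ⟨inferInstance, inferInstance⟩
  haveI : IsReduced (Localization.AtPrime P) := CohenLib.isReduced_of_artinian_formallySmooth k _
  letI : Field (Localization.AtPrime P) := (Ring.KrullDimLE.isField_of_isReduced (R := Localization.AtPrime P)).toField
  exact CohenLib.isGeometricallyReduced_of_formallySmooth

end

end GeomRedFieldLib
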