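import Groth.Agent.HopfFFLib.Nilradical
import Groth.Agent.CohenLib.GeomRed
import Groth.Agent.CohenLib.FSField
import Mathlib.FieldTheory.PurelyInseparable.PerfectClosure
import Mathlib.RingTheory.Etale.Field

/-!
# Reductions become geometrically reduced after a finite purely inseparable extension
-/

set_option autoImplicit false
set_option synthInstance.maxHeartbeats 80000

universe u

open TensorProduct

namespace GeomRedFieldLib

noncomputable section

variable {k : Type u} [Field k]

/-- Reducedness of the base change to a perfect algebraic extension gives geometric reducedness. -/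
theorem isGeometricallyReduced_of_perfect (P : Type u) [Field P] [PerfectField P] [Algebra k P]
    [Algebra.IsAlgebraic k P] (T : Type u) [CommRing T] [Algebra k T] (h : IsReduced (P ⊗[k] T)) :
    Algebra.IsGeometricallyReduced k T := by
  rw [Algebra.isGeometricallyReduced_field_iff]
  let j : P →ₐ[k] AlgebraicClosure k := IsAlgClosed.lift
  letI := j.toRingHom.toAlgebra
  haveI : IsScalarTower k P (AlgebraicClosure k) := .of_algHom j
  haveI := Groth.Agent.HopfFF.isReduced_tensor_of_perfectField P (AlgebraicClosure k) (P ⊗[k] T)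
  exact isReduced_of_injective (Algebra.TensorProduct.cancelBaseChange k P P (AlgebraicClosure k) T).symm
    (AlgEquiv.injective _)

variable (P : Type u) [Field P] [Algebra k P]

/-- The comparison map from a subextension. -/
abbrev incl (C : Type u) [Field C] [Algebra k C] [Algebra C P] [IsScalarTower k C P] (S : Type u) [CommRing S]
    [Algebra k S] : C ⊗[k] S →ₐ[k] P ⊗[k] S :=
  Algebra.TensorProduct.map (IsScalarTower.toAlgHom k C P) (AlgHom.id k S)

theorem incl_injective (C : Type u) [Field C] [Algebra k C] [Algebra C P] [IsScalarTower k C P] (S : Type u)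
    [CommRing S] [Algebra k S] : Function.Injective (incl (k := k) P C S) :=
  Module.Flat.rTensor_preserves_injective_linearMap (IsScalarTower.toAlgHom k C P).toLinearMap
    (IsScalarTower.toAlgHom k C P).injective

/-- The nilradical of `P ⊗ S` is already defined over `C`. -/
def Good (C : Type u) [Field C] [Algebra k C] [Algebra C P] [IsScalarTower k C P] (S : Type u) [CommRing S]
    [Algebra k S] : Prop :=
  nilradical (P ⊗[k] S) ≤ (nilradical (C ⊗[k] S)).map (incl (k := k) P C S)

theorem exists_mem_range_incl [Algebra.IsAlgebraic k P] (S : Type u) [CommRing S] [Algebra k S]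
    (z : P ⊗[k] S) :
    ∃ C : IntermediateField k P, FiniteDimensional k C ∧ z ∈ Set.range (incl (k := k) P ↥C S) := by
  induction z using TensorProduct.induction_on with
  | zero => exact ⟨⊥, inferInstance, 0, map_zero _⟩
  | tmul a b =>
    refine ⟨IntermediateField.adjoin k {a}, IntermediateField.adjoin.finiteDimensional
      (Algebra.IsIntegral.isIntegral a), ⟨a, IntermediateField.mem_adjoin_simple_self k a⟩ ⊗ₜ b, ?_⟩
    simp [incl]
  | add x y hx hy =>
    obtain ⟨C, hC, u, rfl⟩ := hx
    obtain ⟨D, hD, v, rfl⟩ := hy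
    haveI := hC; haveI := hD
    refine ⟨C ⊔ D, inferInstance,
      (Algebra.TensorProduct.map (IntermediateField.inclusion (le_sup_left : C ≤ C ⊔ D)) (AlgHom.id k S) :
          C ⊗[k] S →ₐ[k] (C ⊔ D : IntermediateField k P) ⊗[k] S) u +
        (Algebra.TensorProduct.map (IntermediateField.inclusion (le_sup_right : D ≤ C ⊔ D)) (AlgHom.id k S) :
          D ⊗[k] S →ₐ[k] (C ⊔ D : IntermediateField k P) ⊗[k] S) v, ?_⟩
    rw [map_add, ← AlgHom.comp_apply (incl (k := k) P ↥(C ⊔ D : IntermediateField k P) S), ← AlgHom.comp_apply (incl (k := k) P ↥(C ⊔ D : IntermediateField k P) S), incl,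
      ← Algebra.TensorProduct.map_comp, ← Algebra.TensorProduct.map_comp]
    rfl

variable {P}

theorem Good.mono {C D : IntermediateField k P} (h : C ≤ D) {S : Type u} [CommRing S] [Algebra k S]
    (hC : Good (k := k) P ↥C S) : Good (k := k) P ↥D S := by
  refine hC.trans (Ideal.map_le_iff_le_comap.mpr fun z hz ↦ ?_)
  let t := Algebra.TensorProduct.map (IntermediateField.inclusion h) (AlgHom.id k S)
  have ht : incl (k := k) P ↥C S z = incl (k := k) P ↥D S (t z) := by
    rw [← AlgHom.comp_apply, incl, incl, ← Algebra.TensorProduct.map_comp]; rfl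
  show incl (k := k) P ↥C S z ∈ (nilradical (D ⊗[k] S)).map (incl (k := k) P ↥D S)
  rw [ht]
  exact Ideal.mem_map_of_mem _ (IsNilpotent.map (mem_nilradical.mp hz) t)

/-- A finitely generated nilradical is defined over a finite subextension. -/
theorem exists_good [Algebra.IsAlgebraic k P] (S : Type u) [CommRing S] [Algebra k S]
    (h : (nilradical (P ⊗[k] S)).FG) : ∃ C : IntermediateField k P, FiniteDimensional k C ∧ Good (k := k) P ↥C S := by
  classical
  obtain ⟨s, hs⟩ := h
  choose C hC x hx using fun z : P ⊗[k] S ↦ exists_mem_range_incl P S z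
  haveI := hC
  let D : IntermediateField k P := ⨆ z ∈ s, C z
  haveI : FiniteDimensional k D :=
    IntermediateField.finiteDimensional_iSup_of_finset
  refine ⟨D, inferInstance, ?_⟩
  show nilradical (P ⊗[k] S) ≤ _
  conv_lhs => rw [← hs]
  refine Ideal.span_le.mpr fun z hz ↦ ?_
  have hle : C z ≤ D := le_biSup (fun z ↦ C z) (Finset.mem_coe.mp hz)
  let t := Algebra.TensorProduct.map (IntermediateField.inclusion hle) (AlgHom.id k S)
  have ht : incl (k := k) P ↥D S (t (x z)) = z := by
    conv_rhs => rw [← hx z]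
    rw [← AlgHom.comp_apply, incl, incl, ← Algebra.TensorProduct.map_comp]; rfl
  rw [← ht]
  refine Ideal.mem_map_of_mem _ (mem_nilradical.mpr ?_)
  obtain ⟨n, hn⟩ : IsNilpotent (incl (k := k) P ↥D S (t (x z))) := by
    rw [ht, ← mem_nilradical, ← hs]
    exact Ideal.subset_span hz
  exact ⟨n, incl_injective P D S (by rw [map_pow, hn, map_zero])⟩

/-- A finite union of finitely many good subextensions is good for all of them. -/
theorem exists_good_family [Algebra.IsAlgebraic k P] {ι : Type*} [Finite ι] (S : ι → Type u)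
    [∀ i, CommRing (S i)] [∀ i, Algebra k (S i)] (h : ∀ i, (nilradical (P ⊗[k] S i)).FG) :
    ∃ C : IntermediateField k P, FiniteDimensional k C ∧ ∀ i, Good (k := k) P ↥C (S i) := by
  choose C hC hG using fun i ↦ exists_good (S i) (h i)
  haveI := hC
  exact ⟨⨆ i, C i, IntermediateField.finiteDimensional_iSup_of_finite, fun i ↦ (hG i).mono (le_iSup C i)⟩

/-- Over a good subextension the reduction is geometrically reduced. -/
theorem Good.isGeometricallyReduced [PerfectField P] [Algebra.IsAlgebraic k P] {C : Type u} [Field C]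
    [Algebra k C] [Algebra C P] [IsScalarTower k C P] {S : Type u} [CommRing S] [Algebra k S] (hC : Good (k := k) P C S) :
    Algebra.IsGeometricallyReduced C ((C ⊗[k] S) ⧸ nilradical (C ⊗[k] S)) := by
  haveI : Algebra.IsAlgebraic C P := Algebra.IsAlgebraic.tower_top (K := k) C
  refine isGeometricallyReduced_of_perfect P _ ?_
  let N := nilradical (C ⊗[k] S)
  let T := (C ⊗[k] S) ⧸ N
  let M := nilradical (P ⊗[k] S)
  let j := incl (k := k) P C S
  let π : P ⊗[k] S →ₐ[k] P ⊗[C] T :=
    Algebra.TensorProduct.lift ((Algebra.TensorProduct.includeLeft : P →ₐ[C] P ⊗[C] T).restrictScalars k)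
      (((Algebra.TensorProduct.includeRight : T →ₐ[C] P ⊗[C] T).restrictScalars k).comp
        ((Ideal.Quotient.mkₐ k N).comp Algebra.TensorProduct.includeRight))
      (fun _ _ ↦ mul_comm (G := P ⊗[C] T) _ _)
  have hπj : ∀ x, π (j x) = (1 : P) ⊗ₜ[C] Ideal.Quotient.mk N x := fun x ↦ by
    induction x using TensorProduct.induction_on with
    | zero => simp
    | add a b ha hb => simp only [map_add, tmul_add, ha, hb]
    | tmul c s =>
      simp only [j, incl, π, Algebra.TensorProduct.map_tmul, Algebra.TensorProduct.lift_tmul]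
      show (algebraMap C P c ⊗ₜ[C] (1 : T)) * ((1 : P) ⊗ₜ[C] Ideal.Quotient.mk N ((1 : C) ⊗ₜ s)) = _
      rw [Algebra.TensorProduct.tmul_mul_tmul, mul_one, one_mul, Algebra.algebraMap_eq_smul_one,
        TensorProduct.smul_tmul]
      congr 1
      rw [Algebra.smul_def, show algebraMap C T c = Ideal.Quotient.mk N (c ⊗ₜ 1) from rfl, ← map_mul,
        Algebra.TensorProduct.tmul_mul_tmul, mul_one, one_mul]
  have hπM : ∀ x ∈ M, π x = 0 := fun x hx ↦ by
    have h : (nilradical (C ⊗[k] S)).map (incl (k := k) P C S) ≤ RingHom.ker π :=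
      Ideal.map_le_iff_le_comap.mpr fun y hy ↦ by
        show π (j y) = 0
        rw [hπj, Ideal.Quotient.eq_zero_iff_mem.mpr hy, tmul_zero]
    exact h (hC hx)
  let πb : (P ⊗[k] S) ⧸ M →ₐ[k] P ⊗[C] T := Ideal.Quotient.liftₐ M π hπM
  let θ : P →ₐ[C] (P ⊗[k] S) ⧸ M :=
    { (((Ideal.Quotient.mkₐ k M).comp Algebra.TensorProduct.includeLeft) : P →ₐ[k] _).toRingHom with
      commutes' := fun _ ↦ rfl }
  let η₀ : T →+* (P ⊗[k] S) ⧸ M := Ideal.Quotient.lift N ((Ideal.Quotient.mk M).comp j.toRingHom)
    fun a ha ↦ Ideal.Quotient.eq_zero_iff_mem.mpr (IsNilpotent.map (mem_nilradical.mp ha) j)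
  let η : T →ₐ[C] (P ⊗[k] S) ⧸ M :=
    { η₀ with commutes' := fun c ↦ (by
        show η₀ (Ideal.Quotient.mk N (c ⊗ₜ 1)) = _
        rw [Ideal.Quotient.lift_mk]
        show Ideal.Quotient.mk M (j (c ⊗ₜ 1)) = _
        simp only [j, incl, Algebra.TensorProduct.map_tmul, AlgHom.coe_id, id_eq]
        rfl) }
  let ψ : P ⊗[C] T →ₐ[C] (P ⊗[k] S) ⧸ M := Algebra.TensorProduct.lift θ η fun _ _ ↦ .all _ _
  have hinv : ∀ z, πb (ψ z) = z := fun z ↦ by
    induction z using TensorProduct.induction_on with
    | zero => simp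
    | add a b ha hb => simp only [map_add, ha, hb]
    | tmul p t =>
      obtain ⟨y, rfl⟩ := Ideal.Quotient.mk_surjective t
      have h1 : ψ (p ⊗ₜ Ideal.Quotient.mk N y) = Ideal.Quotient.mk M (p ⊗ₜ 1 * j y) := by
        simp only [ψ, Algebra.TensorProduct.lift_tmul, map_mul]
        rfl
      rw [h1]
      show π (p ⊗ₜ 1 * j y) = _
      rw [map_mul, hπj]
      show (p ⊗ₜ[C] (1 : T)) * ((1 : P) ⊗ₜ[C] Ideal.Quotient.mk N ((1 : C) ⊗ₜ (1 : S))) *
        ((1 : P) ⊗ₜ[C] Ideal.Quotient.mk N y) = _
      rw [← Algebra.TensorProduct.one_def, map_one]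
      simp
  haveI : IsReduced ((P ⊗[k] S) ⧸ M) := by
    rw [← Ideal.isRadical_iff_quotient_reduced]
    exact Ideal.radical_isRadical _
  exact isReduced_of_injective ψ.toRingHom (Function.LeftInverse.injective (g := πb) hinv)

variable (k)

/-- The nilradical of a noetherian base change is finitely generated. -/
theorem nilradical_fg (P : Type u) [Field P] [Algebra k P] (S : Type u) [CommRing S] [Algebra k S]
    [Algebra.EssFiniteType k S] : (nilradical (P ⊗[k] S)).FG := by
  haveI : IsNoetherianRing (P ⊗[k] S) := Algebra.EssFiniteType.isNoetherianRing P (P ⊗[k] S)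
  exact IsNoetherian.noetherian _

/-- A finite purely inseparable extension making finitely many reductions geometrically reduced. -/
theorem exists_finite_purelyInseparable {ι : Type*} [Finite ι] (S : ι → Type u) [∀ i, CommRing (S i)]
    [∀ i, Algebra k (S i)] [∀ i, Algebra.EssFiniteType k (S i)] :
    ∃ (k' : Type u) (_ : Field k') (_ : Algebra k k'), FiniteDimensional k k' ∧ IsPurelyInseparable k k' ∧
      ∀ i, Algebra.IsGeometricallyReduced k' ((k' ⊗[k] S i) ⧸ nilradical (k' ⊗[k] S i)) := by
  let P := perfectClosure k (AlgebraicClosure k)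
  obtain ⟨C, hC, hG⟩ := exists_good_family (k := k) (P := P) S fun i ↦ nilradical_fg k P (S i)
  exact ⟨C, inferInstance, inferInstance, hC, IsPurelyInseparable.tower_bot k C P,
    fun i ↦ (hG i).isGeometricallyReduced⟩

end

end GeomRedFieldLib
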