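import Mathlib.AlgebraicGeometry.Morphisms.QuasiCompact
import Mathlib.AlgebraicGeometry.FunctionField
import Mathlib.AlgebraicGeometry.AffineScheme

/-!
# A closed set missing the generic fibre of a quasi-compact morphism avoids the preimage of an open
-/

set_option autoImplicit false

universe u

open CategoryTheory AlgebraicGeometry

namespace GeomRedFieldLib

variable {X Y : Scheme.{u}}

/-- On an affine piece, a closed set missing the generic fibre is killed by inverting one element. -/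
theorem exists_ne_zero_of_disjoint {R S : Type u} [CommRing R] [IsDomain R] [CommRing S] (φ : R →+* S)
    (C : Set (PrimeSpectrum S)) (hC : IsClosed C) (h : ∀ q ∈ C, q.asIdeal.comap φ ≠ ⊥) :
    ∃ r : R, r ≠ 0 ∧ ∀ q ∈ C, φ r ∈ q.asIdeal := by
  obtain ⟨s, rfl⟩ := (PrimeSpectrum.isClosed_iff_zeroLocus C).mp hC
  let I := Ideal.span s
  by_cases h0 : ∃ r : R, r ≠ 0 ∧ φ r ∈ I
  · obtain ⟨r, hr, hrI⟩ := h0
    exact ⟨r, hr, fun q hq ↦ Ideal.span_le.mpr hq hrI⟩
  · simp only [not_exists, not_and] at h0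
    let M : Submonoid S := Submonoid.map φ.toMonoidHom (nonZeroDivisors R)
    obtain ⟨q, hq, hIq, hMq⟩ := Ideal.exists_le_prime_disjoint I M (Set.disjoint_left.mpr fun x hx hxM ↦ by
      obtain ⟨r, hr, rfl⟩ := hxM
      exact h0 r (nonZeroDivisors.ne_zero hr) hx)
    have hbot : q.comap φ = ⊥ := (Submodule.eq_bot_iff _).mpr fun r hr ↦ by
      by_contra hne
      exact Set.disjoint_left.mp hMq hr ⟨r, mem_nonZeroDivisors_of_ne_zero hne, rfl⟩
    exact (h ⟨q, hq⟩ (fun x hx ↦ hIq (Ideal.subset_span hx)) hbot).elim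

/-- A closed set missing the generic fibre of a quasi-compact morphism lies over a proper closed subset. -/
theorem exists_open_disjoint [IsIntegral Y] (f : X ⟶ Y) [QuasiCompact f] (C : Set X) (hC : IsClosed C)
    (h : ∀ x ∈ C, f x ≠ genericPoint Y) :
    ∃ V : Y.Opens, (V : Set Y).Nonempty ∧ ∀ x ∈ C, f x ∉ V := by
  classical
  obtain ⟨_, ⟨V₀ : Y.Opens, hV₀, rfl⟩, hη, -⟩ :=
    Y.isBasis_affineOpens.exists_subset_of_mem_open (Set.mem_univ (genericPoint Y)) isOpen_univ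
  haveI : Nonempty V₀ := ⟨⟨_, hη⟩⟩
  replace hV₀ : IsAffineOpen V₀ := hV₀
  have hc : IsCompact ((f ⁻¹ᵁ V₀ : X.Opens) : Set X) := QuasiCompact.isCompact_preimage _ V₀.2 hV₀.isCompact
  obtain ⟨s, hs, he⟩ := isCompact_and_isOpen_iff_finite_and_eq_biUnion_affineOpens.mp ⟨hc, (f ⁻¹ᵁ V₀).2⟩
  have key : ∀ U : s, ∃ r : Γ(Y, V₀), r ≠ 0 ∧ ∀ x ∈ C, x ∈ (U.1.1 : Set X) → f x ∉ Y.basicOpen r := by
    rintro ⟨U, hU⟩
    have hle : U.1 ≤ f ⁻¹ᵁ V₀ := fun x hx ↦ by
      show x ∈ ((f ⁻¹ᵁ V₀ : X.Opens) : Set X)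
      rw [he]
      exact Set.mem_biUnion hU hx
    have hUa : IsAffineOpen U.1 := U.2
    let φ := f.appLE V₀ U.1 hle
    obtain ⟨r, hr, hrC⟩ := exists_ne_zero_of_disjoint φ.hom (hUa.fromSpec ⁻¹' C)
      (hC.preimage hUa.fromSpec.continuous) (fun q hq hbot ↦ by
        refine h _ hq ?_
        let q' : ↥(Spec Γ(X, U.1)) := q
        show f (hUa.fromSpec q') = _
        rw [← Scheme.Hom.comp_apply, ← IsAffineOpen.SpecMap_appLE_fromSpec f hV₀ hUa hle, Scheme.Hom.comp_apply]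
        refine (congrArg hV₀.fromSpec (PrimeSpectrum.ext (hbot.trans (Eq.symm ?_)))).trans
          (hV₀.fromSpec_primeIdealOf ⟨genericPoint Y, hη⟩)
        rw [hV₀.primeIdealOf_genericPoint, genericPoint_eq_bot_of_affine]
        rfl)
    refine ⟨r, hr, fun x hxC hxU hfr ↦ ?_⟩
    let q := hUa.primeIdealOf ⟨x, hxU⟩
    have hq : hUa.fromSpec q = x := hUa.fromSpec_primeIdealOf ⟨x, hxU⟩
    have h1 : φ.hom r ∈ q.asIdeal := hrC q (show hUa.fromSpec q ∈ C by rw [hq]; exact hxC)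
    have h2 : x ∈ X.basicOpen (φ.hom r) := by
      have hφ : X.basicOpen (φ.hom r) = U.1 ⊓ f ⁻¹ᵁ Y.basicOpen r := Scheme.basicOpen_appLE ..
      rw [hφ]
      exact ⟨hxU, hfr⟩
    have h3 : q ∈ hUa.fromSpec ⁻¹ᵁ X.basicOpen (φ.hom r) := by
      show hUa.fromSpec q ∈ X.basicOpen (φ.hom r)
      rw [hq]; exact h2
    rw [IsAffineOpen.fromSpec_preimage_basicOpen] at h3
    exact h3 h1
  choose r hr hrC using key
  haveI := hs.to_subtype
  haveI : Fintype s := Fintype.ofFinite _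
  refine ⟨Y.basicOpen (∏ U : s, r U), ?_, fun x hxC hx ↦ ?_⟩
  · by_contra hne
    rw [Set.not_nonempty_iff_eq_empty] at hne
    have : Y.basicOpen (∏ U : s, r U) = ⊥ := TopologicalSpace.Opens.ext hne
    exact Finset.prod_ne_zero_iff.mpr (fun U _ ↦ hr U) ((basicOpen_eq_bot_iff _).mp this)
  · have hx0 : x ∈ f ⁻¹ᵁ V₀ := Y.basicOpen_le _ hx
    have hx1 : x ∈ ⋃ U ∈ s, ((U : X.affineOpens).1 : Set X) := he ▸ hx0
    obtain ⟨U, hU, hxU⟩ := Set.mem_iUnion₂.mp hx1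
    refine hrC ⟨U, hU⟩ x hxC hxU ?_
    rw [← Finset.mul_prod_erase Finset.univ r (Finset.mem_univ ⟨U, hU⟩), Scheme.basicOpen_mul] at hx
    exact hx.1

end GeomRedFieldLib
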