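import Groth.Agent.GeomRedFieldLib.Reduction
import Groth.Agent.SweepSix.FieldsRed
import Mathlib.FieldTheory.IsPerfectClosure

/-!
# Geometric reducedness at a point and purely inseparable extensions of a field
-/

set_option autoImplicit false
set_option synthInstance.maxHeartbeats 80000

universe u

open CategoryTheory CategoryTheory.Limits AlgebraicGeometry TensorProduct

namespace GeomRedFieldLib

noncomputable section

variable {k : Type u} [Field k]

theorem subsingleton_primeSpectrum_tensor (k' K : Type u) [Field k'] [Field K] [Algebra k k'] [Algebra k K]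
    [IsPurelyInseparable k k'] : Subsingleton (PrimeSpectrum (k' ⊗[k] K)) := by
  have h1 := (PrimeSpectrum.isHomeomorph_comap_of_isPurelyInseparable k k' K).injective
  have h2 := (PrimeSpectrum.isHomeomorph_comap_of_bijective
    (f := (Algebra.TensorProduct.comm k K k').toRingEquiv.toRingHom) (Algebra.TensorProduct.comm k K k').bijective).injective
  exact (h1.comp h2).subsingleton

theorem eq_nilradical_of_subsingleton {R : Type*} [CommRing R] [Subsingleton (PrimeSpectrum R)] (m : Ideal R)
    [hm : m.IsPrime] : m = nilradical R := by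
  refine le_antisymm ?_ (fun x hx ↦ hm.radical_le_iff.mpr bot_le hx)
  rw [nilradical_eq_sInf]
  exact le_sInf fun Q hQ ↦ (congrArg PrimeSpectrum.asIdeal (Subsingleton.elim ⟨m, hm⟩ ⟨Q, hQ⟩ : _)).le

/-- A subextension with geometrically reduced reduction is good. -/
theorem good_of_isGeometricallyReduced (P : Type u) [Field P] [Algebra k P] [Algebra.IsAlgebraic k P]
    (C : Type u) [Field C] [Algebra k C] [Algebra C P] [IsScalarTower k C P] (S : Type u) [CommRing S] [Algebra k S]
    (h : Algebra.IsGeometricallyReduced C ((C ⊗[k] S) ⧸ nilradical (C ⊗[k] S))) : Good (k := k) P C S := by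
  intro x hx
  haveI := h
  haveI : Algebra.IsAlgebraic C P := Algebra.IsAlgebraic.tower_top (K := k) C
  let N := nilradical (C ⊗[k] S)
  let g : C ⊗[k] S →ₐ[C] (C ⊗[k] S) ⧸ N := Ideal.Quotient.mkₐ C N
  let e := Algebra.TensorProduct.cancelBaseChange k C P P S
  have hker : RingHom.ker (Algebra.TensorProduct.map (AlgHom.id C P) g) =
      (RingHom.ker g).map Algebra.TensorProduct.includeRight :=
    Algebra.TensorProduct.lTensor_ker (A := P) g Ideal.Quotient.mk_surjective
  have hx0 : e.symm x ∈ RingHom.ker (Algebra.TensorProduct.map (AlgHom.id C P) g) :=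
    (((mem_nilradical.mp hx).map e.symm).map (Algebra.TensorProduct.map (AlgHom.id C P) g)).eq_zero
  have hg : RingHom.ker g = N := Ideal.mk_ker
  rw [hker, hg] at hx0
  have hcomp : ∀ y : C ⊗[k] S, e ((1 : P) ⊗ₜ[C] y) = incl (k := k) P C S y := fun y ↦ by
    induction y using TensorProduct.induction_on with
    | zero => simp
    | add a b ha hb => rw [TensorProduct.tmul_add, map_add, map_add, ha, hb]
    | tmul c s => simp [e, incl, Algebra.smul_def]
  have hle : N.map (Algebra.TensorProduct.includeRight : C ⊗[k] S →ₐ[C] P ⊗[C] (C ⊗[k] S)) ≤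
      (N.map (incl (k := k) P C S)).comap e := Ideal.map_le_iff_le_comap.mpr fun y hy ↦ by
    show e ((1 : P) ⊗ₜ[C] y) ∈ N.map (incl (k := k) P C S)
    rw [hcomp]
    exact Ideal.mem_map_of_mem _ hy
  simpa using hle hx0

variable {X : Scheme.{u}} (f : X ⟶ Spec (CommRingCat.of k))

/-- Reduced local rings over a point after all finite purely inseparable extensions give geometric reducedness. -/
theorem isReduced_stalk_of_purelyInseparable (x : X)
    (h : ∀ (k' : Type u) [Field k'] [Algebra k k'] [FiniteDimensional k k'] [IsPurelyInseparable k k']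
      (x' : ↥(pullback f (str k k'))), pullback.fst f (str k k') x' = x →
      _root_.IsReduced ((pullback f (str k k')).presheaf.stalk x'))
    (K : Type u) [Field K] [Algebra k K] (x' : ↥(pullback f (str k K))) (hx : pullback.fst f (str k K) x' = x) :
    _root_.IsReduced ((pullback f (str k K)).presheaf.stalk x') := by
  obtain ⟨φ, hφ⟩ := Spec.map_surjective (X.fromSpecStalk x ≫ f)
  letI := φ.hom.toAlgebra
  let R := X.presheaf.stalk x
  let sR : Spec (CommRingCat.of R) ⟶ Spec (CommRingCat.of k) := str k R
  have hR : X.fromSpecStalk x ≫ f = sR := hφ.symm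
  haveI := AlgSpLib.flat_fromSpecStalk x
  have main : ∀ (L : Type u) [Field L] [Algebra k L], ∃ m : Spec (CommRingCat.of (R ⊗[k] L)) ⟶ pullback f (str k L),
      Flat m ∧ IsPreimmersion m ∧ m ≫ pullback.fst f (str k L) =
        Spec.map (CommRingCat.ofHom (algebraMap R (R ⊗[k] L))) ≫ X.fromSpecStalk x ∧
      ∀ w, pullback.fst f (str k L) w = x → w ∈ Set.range m := fun L _ _ ↦ by
    let m : pullback sR (str k L) ⟶ pullback f (str k L) :=
      pullback.map _ _ _ _ (X.fromSpecStalk x) (𝟙 _) (𝟙 _) (by simp [hR]) (by simp)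
    have sq : IsPullback m (pullback.fst sR (str k L)) (pullback.fst f (str k L)) (X.fromSpecStalk x) := by
      refine (IsPullback.of_bot (v₂₁ := pullback.snd f (str k L)) (h₃₁ := str k L) (v₂₂ := f) ?_
        (pullback.lift_fst _ _ _).symm (IsPullback.of_hasPullback f (str k L))).flip
      rw [show m ≫ pullback.snd f (str k L) = pullback.snd sR (str k L) from
        (pullback.lift_snd _ _ _).trans (Category.comp_id _), hR]
      exact IsPullback.of_hasPullback sR (str k L)
    haveI : Flat m := MorphismProperty.of_isPullback sq.flip ‹_›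
    haveI : IsPreimmersion m := MorphismProperty.of_isPullback sq.flip inferInstance
    let e := pullbackSpecIso k R L
    refine ⟨e.inv ≫ m, inferInstance, inferInstance, ?_, fun w hw ↦ ?_⟩
    · rw [Category.assoc, sq.w, ← Category.assoc]
      congr 1
      exact pullbackSpecIso_inv_fst k R L
    · obtain ⟨v, hv, -⟩ := Scheme.exists_preimage_of_isPullback sq w (IsLocalRing.closedPoint R)
        (hw.trans Scheme.fromSpecStalk_closedPoint.symm)
      exact ⟨e.hom v, by rw [← Scheme.Hom.comp_apply, Iso.hom_inv_id_assoc, hv]⟩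
  haveI : Algebra.IsGeometricallyReduced k R := by
    refine isGeometricallyReduced_of_finite_purelyInseparable R fun k' _ _ _ _ ↦ ?_
    suffices _root_.IsReduced (R ⊗[k] k') from
      isReduced_of_injective (Algebra.TensorProduct.comm k k' R) (AlgEquiv.injective _)
    haveI : Algebra.IsIntegral R (R ⊗[k] k') := inferInstance
    refine isReduced_ofLocalizationMaximal _ fun M hM ↦ ?_
    obtain ⟨m, hfl, hpre, hm, -⟩ := main k'
    haveI := hfl
    haveI := hpre
    let v : ↥(Spec (CommRingCat.of (R ⊗[k] k'))) := (⟨M, hM.isPrime⟩ : PrimeSpectrum (R ⊗[k] k'))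
    have hv : pullback.fst f (str k k') (m v) = x := by
      rw [← Scheme.Hom.comp_apply, hm, Scheme.Hom.comp_apply]
      refine (congrArg (X.fromSpecStalk x) (?_ : _ = IsLocalRing.closedPoint R)).trans Scheme.fromSpecStalk_closedPoint
      exact PrimeSpectrum.ext (IsLocalRing.eq_maximalIdeal (Ideal.isMaximal_comap_of_isIntegral_of_isMaximal M))
    haveI := h k' (m v) hv
    haveI : _root_.IsReduced ((Spec (CommRingCat.of (R ⊗[k] k'))).presheaf.stalk v) :=
      isReduced_of_injective (RingEquiv.ofBijective (m.stalkMap v).hom (SweepSix.FieldsRed.isIso_stalkMap m v)).symm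
        (RingEquiv.injective _)
    exact isReduced_of_injective (Spec.stalkIso (CommRingCat.of (R ⊗[k] k')) v).commRingCatIsoToRingEquiv.symm
      (RingEquiv.injective _)
  obtain ⟨m, hfl, hpre, -, hm⟩ := main K
  haveI := hfl
  haveI := hpre
  obtain ⟨v, rfl⟩ := hm x' hx
  haveI : _root_.IsReduced (R ⊗[k] K) := isReduced_tensor_geomRed R K
  haveI : AlgebraicGeometry.IsReduced (Spec (CommRingCat.of (R ⊗[k] K))) := inferInstance
  exact isReduced_of_injective (RingEquiv.ofBijective (m.stalkMap v).hom (SweepSix.FieldsRed.isIso_stalkMap m v))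
    (RingEquiv.injective _)

end

end GeomRedFieldLib
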